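import Mathlib
import Cfsg.Agent.PermGroups.DihedralSrg

/-!
A three-transitive group whose three-point stabilizer has two orbits on an odd number of further
points gives a rank three graph; it cannot admit a semiregular dihedral group inside the
stabilizer of a pair.
-/

set_option autoImplicit false

namespace Cfsg.Agent.EvenOvergroup

variable {X Ω : Type*} [Group X] [MulAction X Ω]

/-- the hypotheses to be refuted -/
structure RankThree (q : ℕ) (X Ω : Type*) [Group X] [MulAction X Ω] where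
  hq : Odd q
  hq3 : 3 ≤ q
  card : Nat.card Ω = 2 * q + 2
  a : Ω
  b : Ω
  c : Ω
  hab : a ≠ b
  hca : c ≠ a
  hcb : c ≠ b
  three : ∀ x y z x' y' z' : Ω, x ≠ y → z ≠ x → z ≠ y → x' ≠ y' → z' ≠ x' → z' ≠ y' →
    ∃ g : X, g • x = x' ∧ g • y = y' ∧ g • z = z'
  v1 : Ω
  v2 : Ω
  hv1 : v1 ≠ a ∧ v1 ≠ b ∧ v1 ≠ c
  hv2 : v2 ≠ a ∧ v2 ≠ b ∧ v2 ≠ c
  ne12 : ∀ g : X, g • a = a → g • b = b → g • c = c → g • v1 ≠ v2
  cover : ∀ x, x ≠ a → x ≠ b → x ≠ c →
    ∃ g : X, g • a = a ∧ g • b = b ∧ g • c = c ∧ (g • v1 = x ∨ g • v2 = x)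
  noblock : ∀ S : Set Ω, c ∈ S → (∃ x ∈ S, x ≠ c) → (∀ x ∈ S, x ≠ a ∧ x ≠ b) →
    (∃ x, x ≠ a ∧ x ≠ b ∧ x ∉ S) →
    (∀ g : X, g • a = a → g • b = b → ∀ x ∈ S, g • x ∈ S → ∀ y ∈ S, g • y ∈ S) → False
  t : X
  s : X
  ht : t ^ q = 1
  hta : t • a = a
  htb : t • b = b
  hsa : s • a = b
  hsb : s • b = a
  hs2 : s * s = 1
  hst : s * t * s = t⁻¹
  semireg : ∀ i j, i < q → j < q → t ^ i • c = t ^ j • c → i = j
  notorbit : ∀ i, t ^ i • c ≠ s • c

namespace RankThree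

variable {q : ℕ} (R : RankThree q X Ω)

/-- the orbit of `v1` under the three-point stabilizer -/
def InA (d : Ω) : Prop :=
  ∃ g : X, g • R.a = R.a ∧ g • R.b = R.b ∧ g • R.c = R.c ∧ g • R.v1 = d

/-- the orbit of `v2` under the three-point stabilizer -/
def InB (d : Ω) : Prop :=
  ∃ g : X, g • R.a = R.a ∧ g • R.b = R.b ∧ g • R.c = R.c ∧ g • R.v2 = d

theorem inA_ne {d : Ω} (hd : R.InA d) : d ≠ R.a ∧ d ≠ R.b ∧ d ≠ R.c := by
  obtain ⟨g, h1, h2, h3, h4⟩ := hd
  exact ⟨fun e => R.hv1.1 (smul_left_cancel g (h4.trans (e.trans h1.symm))),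
    fun e => R.hv1.2.1 (smul_left_cancel g (h4.trans (e.trans h2.symm))),
    fun e => R.hv1.2.2 (smul_left_cancel g (h4.trans (e.trans h3.symm)))⟩

theorem inA_or {d : Ω} (h1 : d ≠ R.a) (h2 : d ≠ R.b) (h3 : d ≠ R.c) : R.InA d ∨ R.InB d := by
  obtain ⟨g, e1, e2, e3, e4 | e4⟩ := R.cover d h1 h2 h3
  · exact .inl ⟨g, e1, e2, e3, e4⟩
  · exact .inr ⟨g, e1, e2, e3, e4⟩

theorem not_inA_inB {d : Ω} (hA : R.InA d) (hB : R.InB d) : False := by
  obtain ⟨g, h1, h2, h3, h4⟩ := hA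
  obtain ⟨g', h1', h2', h3', h4'⟩ := hB
  refine R.ne12 (g'⁻¹ * g) ?_ ?_ ?_ ?_ <;> rw [mul_smul]
  · rw [h1, inv_smul_eq_iff, h1']
  · rw [h2, inv_smul_eq_iff, h2']
  · rw [h3, inv_smul_eq_iff, h3']
  · rw [h4, inv_smul_eq_iff, h4']

theorem inA_fix {g : X} (ha : g • R.a = R.a) (hb : g • R.b = R.b) (hc : g • R.c = R.c) {d : Ω}
    (hd : R.InA d) : R.InA (g • d) := by
  obtain ⟨h, h1, h2, h3, h4⟩ := hd
  exact ⟨g * h, by rw [mul_smul, h1, ha], by rw [mul_smul, h2, hb], by rw [mul_smul, h3, hc],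
    by rw [mul_smul, h4]⟩

/-- an element permuting the three base points permutes the two orbits -/
def Perm3 (g : X) : Prop :=
  (g • R.a = R.b ∧ g • R.b = R.a ∧ g • R.c = R.c) ∨ (g • R.a = R.a ∧ g • R.b = R.c ∧ g • R.c = R.b)

theorem conj_fix {g h : X} (hg : R.Perm3 g) (h1 : h • R.a = R.a) (h2 : h • R.b = R.b)
    (h3 : h • R.c = R.c) : (g * h * g⁻¹) • R.a = R.a ∧ (g * h * g⁻¹) • R.b = R.b ∧
      (g * h * g⁻¹) • R.c = R.c := by
  have key : ∀ {x y : Ω}, g • x = y → h • x = x → (g * h * g⁻¹) • y = y := fun {x y} e1 e2 => by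
    rw [← e1, mul_smul, mul_smul, inv_smul_smul, e2]
  rcases hg with ⟨e1, e2, e3⟩ | ⟨e1, e2, e3⟩
  · exact ⟨key e2 h2, key e1 h1, key e3 h3⟩
  · exact ⟨key e1 h1, key e3 h3, key e2 h2⟩

theorem perm3_ne {g : X} (hg : R.Perm3 g) {d : Ω} (h1 : d ≠ R.a) (h2 : d ≠ R.b) (h3 : d ≠ R.c) :
    g • d ≠ R.a ∧ g • d ≠ R.b ∧ g • d ≠ R.c := by
  have key : ∀ {x y : Ω}, g • x = y → d ≠ x → g • d ≠ y := fun e ne e' =>
    ne (smul_left_cancel g (e'.trans e.symm))
  rcases hg with ⟨e1, e2, e3⟩ | ⟨e1, e2, e3⟩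
  · exact ⟨key e2 h2, key e1 h1, key e3 h3⟩
  · exact ⟨key e1 h1, key e3 h3, key e2 h2⟩

include R in
theorem finite : Finite Ω := Nat.finite_of_card_ne_zero (by rw [R.card]; omega)

theorem card_ne [Fintype Ω] [DecidablePred R.InA] [DecidablePred R.InB] :
    (Finset.univ.filter R.InA).card ≠ (Finset.univ.filter R.InB).card := by
  classical
  intro h
  have h1 : (Finset.univ.filter R.InA).card + (Finset.univ.filter R.InB).card + 3 = 2 * q + 2 := by
    rw [← R.card, Nat.card_eq_fintype_card, ← Finset.card_union_of_disjoint]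
    · have : Finset.univ.filter R.InA ∪ Finset.univ.filter R.InB =
          Finset.univ \ {R.a, R.b, R.c} := by
        ext d
        simp only [Finset.mem_union, Finset.mem_filter, Finset.mem_univ, true_and,
          Finset.mem_sdiff, Finset.mem_insert, Finset.mem_singleton, not_or]
        constructor
        · rintro (hd | ⟨g, e1, e2, e3, e4⟩)
          · exact R.inA_ne hd
          · exact ⟨fun e => R.hv2.1 (smul_left_cancel g (e4.trans (e.trans e1.symm))),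
              fun e => R.hv2.2.1 (smul_left_cancel g (e4.trans (e.trans e2.symm))),
              fun e => R.hv2.2.2 (smul_left_cancel g (e4.trans (e.trans e3.symm)))⟩
        · rintro ⟨e1, e2, e3⟩
          exact R.inA_or e1 e2 e3
      rw [this, Finset.card_sdiff_of_subset (Finset.subset_univ _)]
      have h3 : ({R.a, R.b, R.c} : Finset Ω).card = 3 :=
        Finset.card_eq_three.2 ⟨_, _, _, R.hab, R.hca.symm, R.hcb.symm, rfl⟩
      have := Finset.card_le_univ ({R.a, R.b, R.c} : Finset Ω)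
      rw [Finset.card_univ]
      omega
    · exact Finset.disjoint_filter.2 fun d _ hA hB => R.not_inA_inB hA hB
  rw [h] at h1
  omega

theorem perm3_inA {g : X} (hg : R.Perm3 g) {d : Ω} (hd : R.InA d) : R.InA (g • d) := by
  classical
  haveI := R.finite
  haveI := Fintype.ofFinite Ω
  -- an image of an orbit is an orbit
  have move : ∀ {h : X}, h • R.a = R.a → h • R.b = R.b → h • R.c = R.c → ∀ x : Ω,
      g • h • x = (g * h * g⁻¹) • g • x := fun {h} _ _ _ x => by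
    rw [mul_smul, mul_smul, inv_smul_smul]
  have hAin : ∀ x, R.InA x → ∀ Q : Ω → Prop,
      (∀ {k : X} {y}, k • R.a = R.a → k • R.b = R.b → k • R.c = R.c → Q y → Q (k • y)) →
      Q (g • R.v1) → Q (g • x) := by
    rintro x ⟨h, e1, e2, e3, rfl⟩ Q hQ hv
    obtain ⟨k1, k2, k3⟩ := R.conj_fix hg e1 e2 e3
    rw [move e1 e2 e3]
    exact hQ k1 k2 k3 hv
  have hBin : ∀ x, R.InB x → ∀ Q : Ω → Prop,
      (∀ {k : X} {y}, k • R.a = R.a → k • R.b = R.b → k • R.c = R.c → Q y → Q (k • y)) →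
      Q (g • R.v2) → Q (g • x) := by
    rintro x ⟨h, e1, e2, e3, rfl⟩ Q hQ hv
    obtain ⟨k1, k2, k3⟩ := R.conj_fix hg e1 e2 e3
    rw [move e1 e2 e3]
    exact hQ k1 k2 k3 hv
  have hB' : ∀ {k : X} {y}, k • R.a = R.a → k • R.b = R.b → k • R.c = R.c → R.InB y →
      R.InB (k • y) := by
    rintro k y e1 e2 e3 ⟨h, f1, f2, f3, f4⟩
    exact ⟨k * h, by rw [mul_smul, f1, e1], by rw [mul_smul, f2, e2], by rw [mul_smul, f3, e3],
      by rw [mul_smul, f4]⟩
  obtain ⟨n1, n2, n3⟩ := R.perm3_ne hg R.hv1.1 R.hv1.2.1 R.hv1.2.2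
  rcases R.inA_or n1 n2 n3 with h | h
  · exact hAin d hd R.InA (fun e1 e2 e3 h => R.inA_fix e1 e2 e3 h) h
  exfalso
  obtain ⟨m1, m2, m3⟩ := R.perm3_ne hg R.hv2.1 R.hv2.2.1 R.hv2.2.2
  have hAB : ∀ x, R.InA x → R.InB (g • x) := fun x hx => hAin x hx R.InB hB' h
  have hAle : (Finset.univ.filter R.InA).card ≤ (Finset.univ.filter R.InB).card :=
    Finset.card_le_card_of_injOn (fun x => g • x) (fun x hx => by
      simpa using hAB x (by simpa using hx)) fun x _ y _ e => smul_left_cancel g e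
  rcases R.inA_or m1 m2 m3 with h' | h'
  · have hBle : (Finset.univ.filter R.InB).card ≤ (Finset.univ.filter R.InA).card :=
      Finset.card_le_card_of_injOn (fun x => g • x) (fun x hx => by
        simpa using hBin x (by simpa using hx) R.InA
          (fun e1 e2 e3 h => R.inA_fix e1 e2 e3 h) h') fun x _ y _ e => smul_left_cancel g e
    exact R.card_ne (le_antisymm hAle hBle)
  · -- everything would go into the second orbit
    have hall : ∀ x, x ≠ R.a → x ≠ R.b → x ≠ R.c → R.InB (g • x) := fun x e1 e2 e3 => by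
      rcases R.inA_or e1 e2 e3 with hx | hx
      · exact hAB x hx
      · exact hBin x hx R.InB hB' h'
    -- but some point goes to `v1`
    have hsurj : ∃ x, x ≠ R.a ∧ x ≠ R.b ∧ x ≠ R.c ∧ g • x = R.v1 := by
      refine ⟨g⁻¹ • R.v1, ?_, ?_, ?_, smul_inv_smul _ _⟩ <;> intro e <;>
        rw [inv_smul_eq_iff] at e <;> rcases hg with ⟨e1, e2, e3⟩ | ⟨e1, e2, e3⟩
      · exact R.hv1.2.1 (e.trans e1)
      · exact R.hv1.1 (e.trans e1)
      · exact R.hv1.1 (e.trans e2)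
      · exact R.hv1.2.2 (e.trans e2)
      · exact R.hv1.2.2 (e.trans e3)
      · exact R.hv1.2.1 (e.trans e3)
    obtain ⟨x, e1, e2, e3, e4⟩ := hsurj
    exact R.not_inA_inB ⟨1, by simp, by simp, by simp, by simp⟩ (e4 ▸ hall x e1 e2 e3)

/-- the colour of an ordered quadruple -/
def Col (x y z w : Ω) : Prop :=
  ∃ g : X, g • R.a = x ∧ g • R.b = y ∧ g • R.c = z ∧ ∃ d, R.InA d ∧ g • d = w

theorem col_smul (k : X) {x y z w : Ω} (h : R.Col x y z w) :
    R.Col (k • x) (k • y) (k • z) (k • w) := by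
  obtain ⟨g, h1, h2, h3, d, hd, h4⟩ := h
  exact ⟨k * g, by rw [mul_smul, h1], by rw [mul_smul, h2], by rw [mul_smul, h3], d, hd,
    by rw [mul_smul, h4]⟩

theorem col_smul_iff (k : X) {x y z w : Ω} :
    R.Col (k • x) (k • y) (k • z) (k • w) ↔ R.Col x y z w :=
  ⟨fun h => by simpa using R.col_smul k⁻¹ h, R.col_smul k⟩

theorem col_base {d : Ω} : R.Col R.a R.b R.c d ↔ R.InA d :=
  ⟨fun ⟨g, h1, h2, h3, d', hd, h4⟩ => h4 ▸ R.inA_fix h1 h2 h3 hd,
    fun h => ⟨1, one_smul _ _, one_smul _ _, one_smul _ _, d, h, one_smul _ _⟩⟩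

theorem col_swap {x y z w : Ω} (h : R.Col x y z w) : R.Col y x z w ∧ R.Col x z y w := by
  obtain ⟨g, h1, h2, h3, d, hd, h4⟩ := h
  constructor
  · obtain ⟨k, k1, k2, k3⟩ := R.three R.a R.b R.c R.b R.a R.c R.hab R.hca R.hcb R.hab.symm R.hcb
      R.hca
    refine ⟨g * k, by rw [mul_smul, k1, h2], by rw [mul_smul, k2, h1], by rw [mul_smul, k3, h3],
      k⁻¹ • d, ?_, by rw [mul_smul, smul_inv_smul, h4]⟩
    exact R.perm3_inA (.inl ⟨inv_smul_eq_iff.2 k2.symm, inv_smul_eq_iff.2 k1.symm,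
      inv_smul_eq_iff.2 k3.symm⟩) hd
  · obtain ⟨k, k1, k2, k3⟩ := R.three R.a R.b R.c R.a R.c R.b R.hab R.hca R.hcb R.hca.symm
      R.hab.symm R.hcb.symm
    refine ⟨g * k, by rw [mul_smul, k1, h1], by rw [mul_smul, k2, h3], by rw [mul_smul, k3, h2],
      k⁻¹ • d, ?_, by rw [mul_smul, smul_inv_smul, h4]⟩
    exact R.perm3_inA (.inr ⟨inv_smul_eq_iff.2 k1.symm, inv_smul_eq_iff.2 k3.symm,
      inv_smul_eq_iff.2 k2.symm⟩) hd

/-- adjacency on the points different from `a` and `b` -/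
def Adj (v w : Ω) : Prop := R.Col R.a R.b v w

theorem adj_ne {v w : Ω} (h : R.Adj v w) :
    (v ≠ R.a ∧ v ≠ R.b) ∧ (w ≠ R.a ∧ w ≠ R.b) ∧ v ≠ w := by
  obtain ⟨g, h1, h2, h3, d, hd, h4⟩ := h
  obtain ⟨d1, d2, d3⟩ := R.inA_ne hd
  refine ⟨⟨fun e => R.hca (smul_left_cancel g (h3.trans (e.trans h1.symm))),
    fun e => R.hcb (smul_left_cancel g (h3.trans (e.trans h2.symm)))⟩,
    ⟨fun e => d1 (smul_left_cancel g (h4.trans (e.trans h1.symm))),
      fun e => d2 (smul_left_cancel g (h4.trans (e.trans h2.symm)))⟩,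
    fun e => d3 (smul_left_cancel g (h4.trans (e.symm.trans h3.symm)))⟩

theorem adj_fix {k : X} (ha : k • R.a = R.a) (hb : k • R.b = R.b) {v w : Ω} :
    R.Adj (k • v) (k • w) ↔ R.Adj v w := by
  have := R.col_smul_iff k (x := R.a) (y := R.b) (z := v) (w := w)
  rwa [ha, hb] at this

theorem adj_swap {k : X} (ha : k • R.a = R.b) (hb : k • R.b = R.a) {v w : Ω} :
    R.Adj (k • v) (k • w) ↔ R.Adj v w := by
  have := R.col_smul_iff k (x := R.a) (y := R.b) (z := v) (w := w)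
  rw [ha, hb] at this
  exact ⟨fun h => this.1 (R.col_swap h).1, fun h => (R.col_swap (this.2 h)).1⟩

theorem adj_base {w : Ω} : R.Adj R.c w ↔ R.InA w := R.col_base

theorem exists_to_base {v : Ω} (ha : v ≠ R.a) (hb : v ≠ R.b) :
    ∃ k : X, k • R.a = R.a ∧ k • R.b = R.b ∧ k • R.c = v :=
  R.three R.a R.b R.c R.a R.b v R.hab R.hca R.hcb R.hab ha hb

/-- two adjacent pairs are equivalent -/
theorem adj_trans {v w v' w' : Ω} (h : R.Adj v w) (h' : R.Adj v' w') :
    ∃ k : X, k • R.a = R.a ∧ k • R.b = R.b ∧ k • v = v' ∧ k • w = w' := by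
  obtain ⟨g, h1, h2, h3, d, ⟨u, u1, u2, u3, u4⟩, h4⟩ := h
  obtain ⟨g', h1', h2', h3', d', ⟨u', u1', u2', u3', u4'⟩, h4'⟩ := h'
  refine ⟨g' * u' * (g * u)⁻¹, ?_, ?_, ?_, ?_⟩
  · conv_lhs => rw [show R.a = (g * u) • R.a by rw [mul_smul, u1, h1]]
    rw [mul_smul _ (g * u)⁻¹, inv_smul_smul, mul_smul, u1', h1']
  · conv_lhs => rw [show R.b = (g * u) • R.b by rw [mul_smul, u2, h2]]
    rw [mul_smul _ (g * u)⁻¹, inv_smul_smul, mul_smul, u2', h2']
  · conv_lhs => rw [show v = (g * u) • R.c by rw [mul_smul, u3, h3]]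
    rw [mul_smul _ (g * u)⁻¹, inv_smul_smul, mul_smul, u3', h3']
  · conv_lhs => rw [show w = (g * u) • R.v1 by rw [mul_smul, u4, h4]]
    rw [mul_smul _ (g * u)⁻¹, inv_smul_smul, mul_smul, u4', h4']

/-- every non-adjacent pair is equivalent to `(c, v2)` -/
theorem nonadj_trans {v w : Ω} (hv : v ≠ R.a ∧ v ≠ R.b) (hw : w ≠ R.a ∧ w ≠ R.b) (hne : v ≠ w)
    (h : ¬ R.Adj v w) :
    ∃ k : X, k • R.a = R.a ∧ k • R.b = R.b ∧ k • R.c = v ∧ k • R.v2 = w := by
  obtain ⟨g, g1, g2, g3⟩ := R.exists_to_base hv.1 hv.2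
  have hne' : ∀ {x y : Ω}, g • x = y → w ≠ y → g⁻¹ • w ≠ x := fun e ne e' =>
    ne (by rw [← e, ← e', smul_inv_smul])
  rcases R.inA_or (hne' g1 hw.1) (hne' g2 hw.2) (hne' g3 hne.symm) with hA | ⟨u, u1, u2, u3, u4⟩
  · exact absurd ⟨g, g1, g2, g3, _, hA, smul_inv_smul _ _⟩ h
  · exact ⟨g * u, by rw [mul_smul, u1, g1], by rw [mul_smul, u2, g2], by rw [mul_smul, u3, g3],
      by rw [mul_smul, u4, smul_inv_smul]⟩

theorem adj_symm {v w : Ω} (h : R.Adj v w) : R.Adj w v := by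
  classical
  haveI := R.finite
  haveI := Fintype.ofFinite Ω
  by_contra hn
  obtain ⟨⟨hv, hw, hne⟩⟩ : Nonempty _ := ⟨R.adj_ne h⟩
  -- then every reversed adjacent pair is non-adjacent and conversely
  have h1 : ∀ {x y : Ω}, R.Adj x y → ¬ R.Adj y x := fun {x y} hxy hyx => by
    obtain ⟨k, k1, k2, k3, k4⟩ := R.adj_trans hxy h
    exact hn (k3 ▸ k4 ▸ (R.adj_fix k1 k2).2 hyx)
  have h2 : ∀ {x y : Ω}, (x ≠ R.a ∧ x ≠ R.b) → (y ≠ R.a ∧ y ≠ R.b) → x ≠ y → ¬ R.Adj x y →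
      R.Adj y x := fun {x y} hx hy hxy hnadj => by
    obtain ⟨k, k1, k2, k3, k4⟩ := R.nonadj_trans hx hy hxy hnadj
    obtain ⟨k', k1', k2', k3', k4'⟩ := R.nonadj_trans hw hv hne.symm hn
    have hcv : R.Adj R.v2 R.c := by
      have := (R.adj_fix k1' k2' (v := R.v2) (w := R.c)).1 (by rw [k3', k4']; exact h)
      exact this
    exact k4 ▸ k3 ▸ (R.adj_fix k1 k2).2 hcv
  set V : Finset Ω := Finset.univ.filter fun x => x ≠ R.a ∧ x ≠ R.b
  set P : Finset (Ω × Ω) := Finset.univ.filter fun e => R.Adj e.1 e.2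
  set N : Finset (Ω × Ω) := Finset.univ.filter fun e =>
    (e.1 ≠ R.a ∧ e.1 ≠ R.b) ∧ (e.2 ≠ R.a ∧ e.2 ≠ R.b) ∧ e.1 ≠ e.2 ∧ ¬ R.Adj e.1 e.2
  have hPN : P.card = N.card := Finset.card_bij' (fun e _ => (e.2, e.1)) (fun e _ => (e.2, e.1))
    (fun e he => by
      simp only [P, N, Finset.mem_filter, Finset.mem_univ, true_and] at he ⊢
      obtain ⟨p1, p2, p3⟩ := R.adj_ne he
      exact ⟨p2, p1, p3.symm, h1 he⟩)
    (fun e he => by
      simp only [P, N, Finset.mem_filter, Finset.mem_univ, true_and] at he ⊢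
      exact h2 he.1 he.2.1 he.2.2.1 he.2.2.2)
    (fun e _ => rfl) (fun e _ => rfl)
  have count : ∀ (Q : Ω → Ω → Prop) [DecidableRel Q] (B : Finset Ω),
      (∀ {x y}, Q x y → x ≠ R.a ∧ x ≠ R.b) →
      (∀ {k : X} {x y}, k • R.a = R.a → k • R.b = R.b → (Q (k • x) (k • y) ↔ Q x y)) →
      (∀ y, y ∈ B ↔ Q R.c y) →
      ((Finset.univ : Finset (Ω × Ω)).filter fun e => Q e.1 e.2).card = V.card * B.card := by
    intro Q _ B hQV hQk hB
    rw [Finset.card_eq_sum_card_fiberwise (f := Prod.fst) (t := V) (fun e he => by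
      simpa [V] using hQV (Finset.mem_filter.1 he).2)]
    rw [Finset.sum_const_nat (m := B.card)]
    intro x hx
    obtain ⟨k, k1, k2, k3⟩ := R.exists_to_base (Finset.mem_filter.1 hx).2.1
      (Finset.mem_filter.1 hx).2.2
    refine Finset.card_bij' (fun e _ => k⁻¹ • e.2) (fun y _ => (x, k • y)) ?_ ?_ ?_ ?_
    · intro e he
      simp only [Finset.mem_filter, Finset.mem_univ, true_and] at he
      rw [hB, ← hQk k1 k2, k3, smul_inv_smul, ← he.2]
      exact he.1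
    · intro y hy
      simp only [Finset.mem_filter, Finset.mem_univ, true_and]
      refine ⟨?_, trivial⟩
      rw [← k3, hQk k1 k2, ← hB]
      exact hy
    · intro e he
      simp only [Finset.mem_filter] at he
      rw [smul_inv_smul, ← he.2]
    · intro y _
      simp
  have hP : P.card = V.card * (Finset.univ.filter R.InA).card :=
    count R.Adj _ (fun h => (R.adj_ne h).1) (fun k1 k2 => R.adj_fix k1 k2)
      (fun y => by simp [R.adj_base])
  have hN : N.card = V.card * (Finset.univ.filter R.InB).card :=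
    count (fun x y => (x ≠ R.a ∧ x ≠ R.b) ∧ (y ≠ R.a ∧ y ≠ R.b) ∧ x ≠ y ∧ ¬ R.Adj x y) _
      (fun h => h.1) (fun {k x y} k1 k2 => by
        have e : ∀ {z y : Ω}, k • y = y → (k • z = y ↔ z = y) := fun {z y} hy =>
          ⟨fun h => smul_left_cancel k (h.trans hy.symm), fun h => by rw [h, hy]⟩
        simp only [ne_eq, e k1, e k2, R.adj_fix k1 k2, smul_left_cancel_iff])
      (fun y => by
        simp only [Finset.mem_filter, Finset.mem_univ, true_and, R.adj_base]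
        constructor
        · rintro ⟨g, g1, g2, g3, g4⟩
          refine ⟨⟨R.hca, R.hcb⟩, ⟨?_, ?_⟩, ?_, fun hA => R.not_inA_inB hA ⟨g, g1, g2, g3, g4⟩⟩
          · exact fun e => R.hv2.1 (smul_left_cancel g (g4.trans (e.trans g1.symm)))
          · exact fun e => R.hv2.2.1 (smul_left_cancel g (g4.trans (e.trans g2.symm)))
          · exact fun e => R.hv2.2.2 (smul_left_cancel g (g4.trans (e.symm.trans g3.symm)))
        · rintro ⟨-, ⟨y1, y2⟩, y3, y4⟩
          exact (R.inA_or y1 y2 (Ne.symm y3)).resolve_left y4)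
  have hV : 0 < V.card := Finset.card_pos.2 ⟨R.c, by simp [V, R.hca, R.hcb]⟩
  exact R.card_ne (Nat.eq_of_mul_eq_mul_left hV (hP ▸ hN ▸ hPN))

theorem adj_comm {v w : Ω} : R.Adj v w ↔ R.Adj w v := ⟨R.adj_symm, R.adj_symm⟩

theorem adj_c_v1 : R.Adj R.c R.v1 :=
  R.adj_base.2 ⟨1, by simp, by simp, by simp, by simp⟩

theorem not_adj_c_v2 : ¬ R.Adj R.c R.v2 := fun h =>
  R.not_inA_inB (R.adj_base.1 h) ⟨1, by simp, by simp, by simp, by simp⟩

/-- an invariant relation containing equality and transitive would give a block -/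
theorem not_transitive (Q : Ω → Ω → Prop) (hsymm : ∀ {x y}, Q x y → Q y x)
    (hQk : ∀ {k : X} {x y}, k • R.a = R.a → k • R.b = R.b → (Q (k • x) (k • y) ↔ Q x y))
    (hV : ∀ {x}, Q R.c x → x ≠ R.a ∧ x ≠ R.b)
    (hrefl : ∀ {x}, x ≠ R.a → x ≠ R.b → Q x x) (hne : ∃ x, x ≠ R.c ∧ Q R.c x)
    (hnot : ∃ x, x ≠ R.a ∧ x ≠ R.b ∧ ¬ Q R.c x)
    (htr : ∀ {x y z}, Q x y → Q y z → Q x z) : False := by
  obtain ⟨x, hx, hQx⟩ := hne
  refine R.noblock {y | Q R.c y} (hrefl R.hca R.hcb) ⟨x, hQx, hx⟩ (fun y hy => hV hy) hnot ?_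
  intro g g1 g2 y hy hgy z hz
  exact htr hgy ((hQk g1 g2).2 (htr (hsymm hy) hz))

theorem exists_common : ∃ x, R.Adj R.c x ∧ R.Adj R.v2 x := by
  by_contra hno
  push Not at hno
  let Q : Ω → Ω → Prop := fun x y => (x = y ∧ x ≠ R.a ∧ x ≠ R.b) ∨ R.Adj x y
  refine R.not_transitive Q ?_ ?_ ?_ (fun h1 h2 => .inl ⟨rfl, h1, h2⟩)
    ⟨R.v1, R.hv1.2.2, .inr R.adj_c_v1⟩ ⟨R.v2, R.hv2.1, R.hv2.2.1, ?_⟩ ?_
  · rintro x y (⟨rfl, h⟩ | h)
    · exact .inl ⟨rfl, h⟩
    · exact .inr (R.adj_symm h)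
  · intro k x y k1 k2
    have e : ∀ {z y : Ω}, k • y = y → (k • z = y ↔ z = y) := fun {z y} hy =>
      ⟨fun h => smul_left_cancel k (h.trans hy.symm), fun h => by rw [h, hy]⟩
    simp only [Q, ne_eq, e k1, e k2, R.adj_fix k1 k2, smul_left_cancel_iff]
  · rintro x (⟨rfl, h⟩ | h)
    · exact h
    · exact (R.adj_ne h).2.1
  · rintro (⟨e, -⟩ | h)
    · exact R.hv2.2.2 e.symm
    · exact R.not_adj_c_v2 h
  · rintro x y z (⟨rfl, -⟩ | hxy) hyz
    · exact hyz
    rcases hyz with ⟨rfl, -⟩ | hyz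
    · exact .inr hxy
    by_cases hxz : x = z
    · subst hxz
      exact .inl ⟨rfl, (R.adj_ne hxy).1⟩
    by_contra hQ
    obtain ⟨k, k1, k2, k3, k4⟩ :=
      R.nonadj_trans (R.adj_ne hxy).1 (R.adj_ne hyz).2.1 hxz fun h => hQ (.inr h)
    refine hno (k⁻¹ • y) ?_ ?_
    · rw [← R.adj_fix k1 k2, k3, smul_inv_smul]; exact hxy
    · rw [← R.adj_fix k1 k2, k4, smul_inv_smul]; exact R.adj_symm hyz

theorem exists_common_non : ∃ x, x ≠ R.a ∧ x ≠ R.b ∧ x ≠ R.c ∧ x ≠ R.v1 ∧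
    ¬ R.Adj R.c x ∧ ¬ R.Adj R.v1 x := by
  by_contra hno
  let Q : Ω → Ω → Prop := fun x y => (x ≠ R.a ∧ x ≠ R.b) ∧ (y ≠ R.a ∧ y ≠ R.b) ∧ ¬ R.Adj x y
  refine R.not_transitive Q (fun ⟨h1, h2, h3⟩ => ⟨h2, h1, fun h => h3 (R.adj_symm h)⟩) ?_
    (fun h => h.2.1) (fun h1 h2 => ⟨⟨h1, h2⟩, ⟨h1, h2⟩, fun h => (R.adj_ne h).2.2 rfl⟩)
    ⟨R.v2, R.hv2.2.2, ⟨R.hca, R.hcb⟩, ⟨R.hv2.1, R.hv2.2.1⟩, R.not_adj_c_v2⟩
    ⟨R.v1, R.hv1.1, R.hv1.2.1, fun h => h.2.2 R.adj_c_v1⟩ ?_
  · intro k x y k1 k2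
    have e : ∀ {z y : Ω}, k • y = y → (k • z = y ↔ z = y) := fun {z y} hy =>
      ⟨fun h => smul_left_cancel k (h.trans hy.symm), fun h => by rw [h, hy]⟩
    simp only [Q, ne_eq, e k1, e k2, R.adj_fix k1 k2]
  · rintro x y z ⟨hx, hy, hxy⟩ ⟨-, hz, hyz⟩
    refine ⟨hx, hz, fun hxz => ?_⟩
    have hyx : y ≠ x := fun e => hyz (e ▸ hxz)
    have hyz' : y ≠ z := fun e => hxy (e ▸ hxz)
    obtain ⟨k, k1, k2, k3, k4⟩ := R.adj_trans R.adj_c_v1 hxz
    have hne : ∀ {u w : Ω}, k • u = w → y ≠ w → k⁻¹ • y ≠ u := fun e ne e' =>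
      ne (by rw [← e, ← e', smul_inv_smul])
    refine hno ⟨k⁻¹ • y, hne k1 hy.1, hne k2 hy.2, hne k3 hyx, hne k4 hyz', ?_, ?_⟩
    · rw [← R.adj_fix k1 k2, k3, smul_inv_smul]; exact hxy
    · rw [← R.adj_fix k1 k2, k4, smul_inv_smul]; exact fun h => hyz (R.adj_symm h)

/-- the identification of the vertices with `ZMod q × Bool` -/
def vtx (e : ZMod q × Bool) : Ω := R.t ^ e.1.val • if e.2 then R.s • R.c else R.c

theorem t_pow_fix (n : ℕ) : R.t ^ n • R.a = R.a ∧ R.t ^ n • R.b = R.b := by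
  induction n with
  | zero => simp
  | succ n ih => simp [pow_succ, mul_smul, R.hta, R.htb, ih.1, ih.2]

theorem t_pow_mod (n : ℕ) : R.t ^ (n % q) = R.t ^ n := by
  conv_rhs => rw [← Nat.mod_add_div n q, pow_add, pow_mul, R.ht, one_pow, mul_one]

theorem t_pow_add [NeZero q] (i j : ZMod q) : R.t ^ (i + j).val = R.t ^ i.val * R.t ^ j.val := by
  rw [ZMod.val_add, R.t_pow_mod, pow_add]

theorem s_t_pow (n : ℕ) : R.s * R.t ^ n * R.s = (R.t ^ n)⁻¹ := by
  have hs : R.s⁻¹ = R.s := inv_eq_of_mul_eq_one_right R.hs2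
  rw [show R.s * R.t ^ n * R.s = R.s * R.t ^ n * R.s⁻¹ by rw [hs], ← conj_pow, hs, R.hst, inv_pow]

theorem vtx_shift [NeZero q] (k : ZMod q) (e : ZMod q × Bool) :
    R.vtx (k + e.1, e.2) = R.t ^ k.val • R.vtx e := by
  simp only [vtx, R.t_pow_add, mul_smul]

theorem vtx_swap [NeZero q] (e : ZMod q × Bool) : R.s • R.vtx e = R.vtx (-e.1, !e.2) := by
  have h : R.s * R.t ^ e.1.val = R.t ^ (-e.1).val * R.s := by
    calc R.s * R.t ^ e.1.val = R.s * R.t ^ e.1.val * (R.s * R.s) := by rw [R.hs2, mul_one]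
      _ = (R.s * R.t ^ e.1.val * R.s) * R.s := by group
      _ = (R.t ^ e.1.val)⁻¹ * R.s := by rw [R.s_t_pow]
      _ = _ := by
        congr 1
        refine inv_eq_of_mul_eq_one_left ?_
        rw [← R.t_pow_add, neg_add_cancel, ZMod.val_zero, pow_zero]
  obtain ⟨i, _ | _⟩ := e <;> simp only [vtx] at h ⊢
  · simp only [Bool.false_eq_true, if_false, Bool.not_false, if_true]
    rw [← mul_smul, h, mul_smul]
  · simp only [if_true, Bool.not_true, Bool.false_eq_true, if_false]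
    rw [← mul_smul, h, mul_smul, ← mul_smul R.s, R.hs2, one_smul]

theorem vtx_injective [NeZero q] : Function.Injective R.vtx := by
  have hcross : ∀ i j : ZMod q, R.vtx (i, false) ≠ R.vtx (j, true) := fun i j h => by
    refine R.notorbit ((i - j).val) ?_
    have h' : R.t ^ (i - j + j).val • R.c = R.t ^ j.val • R.s • R.c := by
      simpa [vtx] using h
    rw [add_comm, R.t_pow_add, mul_smul] at h'
    exact smul_left_cancel _ h'
  have hsame : ∀ i j : ZMod q, R.vtx (i, false) = R.vtx (j, false) → i = j := fun i j h =>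
    ZMod.val_injective q (R.semireg _ _ (ZMod.val_lt i) (ZMod.val_lt j) (by simpa [vtx] using h))
  rintro ⟨i, _ | _⟩ ⟨j, _ | _⟩ h
  · rw [hsame i j h]
  · exact absurd h (hcross i j)
  · exact absurd h.symm (hcross j i)
  · have := congrArg (R.s • ·) h
    simp only [R.vtx_swap, Bool.not_true] at this
    rw [neg_inj.1 (hsame _ _ this)]

theorem vtx_ne [NeZero q] (e : ZMod q × Bool) : R.vtx e ≠ R.a ∧ R.vtx e ≠ R.b := by
  obtain ⟨h1, h2⟩ := R.t_pow_fix e.1.val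
  have hs : R.s • R.c ≠ R.a ∧ R.s • R.c ≠ R.b :=
    ⟨fun h => R.hcb (smul_left_cancel R.s (h.trans R.hsb.symm)),
      fun h => R.hca (smul_left_cancel R.s (h.trans R.hsa.symm))⟩
  obtain ⟨i, _ | _⟩ := e
  · exact ⟨fun h => R.hca (smul_left_cancel _ (h.trans h1.symm)),
      fun h => R.hcb (smul_left_cancel _ (h.trans h2.symm))⟩
  · exact ⟨fun h => hs.1 (smul_left_cancel _ (h.trans h1.symm)),
      fun h => hs.2 (smul_left_cancel _ (h.trans h2.symm))⟩

theorem sum_vertices [NeZero q] [Fintype Ω] [DecidableEq Ω] (f : Ω → ℤ) (ha : f R.a = 0)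
    (hb : f R.b = 0) :
    ∑ x, f x = ∑ y : ZMod q, f (R.vtx (y, false)) + ∑ y : ZMod q, f (R.vtx (y, true)) := by
  have himg : Finset.univ.image R.vtx = Finset.univ \ {R.a, R.b} := by
    refine Finset.eq_of_subset_of_card_le (fun x hx => ?_) ?_
    · obtain ⟨e, -, rfl⟩ := Finset.mem_image.1 hx
      simp [R.vtx_ne e]
    · rw [Finset.card_image_of_injective _ R.vtx_injective,
        Finset.card_sdiff_of_subset (Finset.subset_univ _), Finset.card_pair R.hab,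
        Finset.card_univ, Finset.card_univ, Fintype.card_prod, ZMod.card, Fintype.card_bool,
        ← Nat.card_eq_fintype_card (α := Ω), R.card]
      omega
  rw [← Finset.sum_sdiff (Finset.subset_univ ({R.a, R.b} : Finset Ω)),
    Finset.sum_pair R.hab, ha, hb, ← himg, Finset.sum_image fun x _ y _ h => R.vtx_injective h,
    Fintype.sum_prod_type, ← Finset.sum_add_distrib]
  simp [Fintype.sum_bool, add_comm]

include R in
theorem contradiction : False := by
  classical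
  haveI := R.finite
  haveI := Fintype.ofFinite Ω
  haveI : NeZero q := ⟨by have := R.hq3; omega⟩
  let A : Ω → Ω → ℤ := fun x y => if R.Adj x y then 1 else 0
  have A01 : ∀ x y, A x y = 0 ∨ A x y = 1 := fun x y => by simp only [A]; split_ifs <;> simp
  have Asymm : ∀ x y, A x y = A y x := fun x y => if_congr R.adj_comm rfl rfl
  have A0 : ∀ x y, ¬ R.Adj x y → A x y = 0 := fun x y h => if_neg h
  set d : ZMod q → ℤ := fun x => A (R.vtx (0, false)) (R.vtx (x, false)) with hd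
  set c : ZMod q → ℤ := fun x => A (R.vtx (0, false)) (R.vtx (x, true)) with hc
  have hshift : ∀ (k : ZMod q) e e',
      A (R.vtx (k + e.1, e.2)) (R.vtx (k + e'.1, e'.2)) = A (R.vtx e) (R.vtx e') := fun k e e' =>
    if_congr (by
      rw [R.vtx_shift, R.vtx_shift]
      exact R.adj_fix (R.t_pow_fix _).1 (R.t_pow_fix _).2) rfl rfl
  have hswap : ∀ e e', A (R.vtx (-e.1, !e.2)) (R.vtx (-e'.1, !e'.2)) = A (R.vtx e) (R.vtx e') :=
    fun e e' => if_congr (by
      rw [← R.vtx_swap, ← R.vtx_swap]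
      exact R.adj_swap R.hsa R.hsb) rfl rfl
  have eFF : ∀ i j, A (R.vtx (i, false)) (R.vtx (j, false)) = d (j - i) := fun i j => by
    rw [hd, ← hshift (-i) (i, false) (j, false)]
    simp [neg_add_eq_sub]
  have eFT : ∀ i j, A (R.vtx (i, false)) (R.vtx (j, true)) = c (j - i) := fun i j => by
    rw [hc, ← hshift (-i) (i, false) (j, true)]
    simp [neg_add_eq_sub]
  have eTT : ∀ i j, A (R.vtx (i, true)) (R.vtx (j, true)) = d (i - j) := fun i j => by
    rw [← hswap (i, true) (j, true)]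
    simp only [Bool.not_true]
    rw [eFF]
    congr 1
    ring
  have hds : ∀ x, d (-x) = d x := fun x => by
    rw [show -x = 0 - x by ring, ← eFF, Asymm, eFF, sub_zero]
  let cnt : Ω → Ω → ℤ := fun v w => ∑ x, A v x * A w x
  have hcnt : ∀ v w, cnt v w = ∑ y, A v (R.vtx (y, false)) * A w (R.vtx (y, false)) +
      ∑ y, A v (R.vtx (y, true)) * A w (R.vtx (y, true)) := fun v w =>
    R.sum_vertices _ (by rw [A0 v R.a fun h => (R.adj_ne h).2.1.1 rfl, zero_mul])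
      (by rw [A0 v R.b fun h => (R.adj_ne h).2.1.2 rfl, zero_mul])
  have hfix : ∀ {k : X}, k • R.a = R.a → k • R.b = R.b → ∀ v w, cnt (k • v) (k • w) = cnt v w :=
    fun {k} k1 k2 v w => by
      simp only [cnt]
      rw [← Equiv.sum_comp (MulAction.toPerm k) fun x => A (k • v) x * A (k • w) x]
      refine Finset.sum_congr rfl fun x _ => ?_
      simp only [A, MulAction.toPerm_apply, R.adj_fix k1 k2]
  set l := cnt R.c R.v1 with hl
  set m := cnt R.c R.v2 with hm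
  have hadj : ∀ v w, R.Adj v w → cnt v w = l := fun v w h => by
    obtain ⟨k, k1, k2, k3, k4⟩ := R.adj_trans R.adj_c_v1 h
    rw [← k3, ← k4, hfix k1 k2]
  have hnon : ∀ v w, (v ≠ R.a ∧ v ≠ R.b) → (w ≠ R.a ∧ w ≠ R.b) → v ≠ w → ¬ R.Adj v w →
      cnt v w = m := fun v w hv hw hne h => by
    obtain ⟨k, k1, k2, k3, k4⟩ := R.nonadj_trans hv hw hne h
    rw [← k3, ← k4, hfix k1 k2]
  have hc00 : R.vtx (0, false) = R.c := by simp [vtx]
  have hval : ∀ e, (R.vtx (0, false) ≠ R.vtx e) →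
      cnt (R.vtx (0, false)) (R.vtx e) = if A (R.vtx (0, false)) (R.vtx e) = 1 then l else m := by
    intro e hne
    by_cases h : R.Adj (R.vtx (0, false)) (R.vtx e)
    · rw [if_pos (if_pos h), hadj _ _ h]
    · rw [if_neg (by rw [A0 _ _ h]; exact zero_ne_one), hnon _ _ (R.vtx_ne _) (R.vtx_ne _) hne h]
  set k := ∑ x, d x + ∑ x, c x with hk
  have hd0 : d 0 = 0 := A0 _ _ fun h => (R.adj_ne h).2.2 rfl
  refine Cfsg.Agent.DihedralSrg.no_dihedral_srg R.hq R.hq3 d c (fun x => A01 _ _) (fun x => A01 _ _)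
    hd0 hds k l m hk ?_ ?_ ?_ ?_
  · intro x
    have hsum : cnt (R.vtx (0, false)) (R.vtx (x, false)) =
        ∑ y, d y * d (x - y) + ∑ y, c y * c (y - x) := by
      rw [hcnt]
      congr 1
      · refine Finset.sum_congr rfl fun y _ => ?_
        rw [eFF, eFF, sub_zero, ← hds (y - x), neg_sub]
      · refine Finset.sum_congr rfl fun y _ => ?_
        rw [eFT, eFT, sub_zero]
    rw [← hsum]
    by_cases hx : x = 0
    · rw [if_pos hx, hx, hcnt, hk]
      congr 1 <;> refine Finset.sum_congr rfl fun y _ => ?_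
      · rw [eFF, sub_zero]; rcases A01 (R.vtx (0, false)) (R.vtx (y, false)) with h | h <;>
          simp [hd, h]
      · rw [eFT, sub_zero]; rcases A01 (R.vtx (0, false)) (R.vtx (y, true)) with h | h <;>
          simp [hc, h]
    · rw [if_neg hx, hval _ fun h => hx (congrArg Prod.fst (R.vtx_injective h)).symm]
  · intro x
    have hsum : cnt (R.vtx (0, false)) (R.vtx (x, true)) = 2 * ∑ y, d y * c (x - y) := by
      rw [hcnt, two_mul]
      congr 1
      · refine Finset.sum_congr rfl fun y _ => ?_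
        rw [Asymm (R.vtx (x, true)), eFF, eFT, sub_zero]
      · rw [← Equiv.sum_comp (Equiv.subLeft x) fun y => d y * c (x - y)]
        refine Finset.sum_congr rfl fun y _ => ?_
        rw [eFT, eTT, sub_zero, Equiv.subLeft_apply, sub_sub_cancel, mul_comm]
    rw [← hsum, hval _ fun h => by
      have := congrArg Prod.snd (R.vtx_injective h); simp at this]
  · obtain ⟨x, h1, h2⟩ := R.exists_common
    intro h0
    have := Finset.single_le_sum (f := fun x => A R.c x * A R.v2 x) (fun y _ => by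
      rcases A01 R.c y with e | e <;> rcases A01 R.v2 y with e' | e' <;> simp [e, e'])
      (Finset.mem_univ x)
    rw [show ∑ x, A R.c x * A R.v2 x = m from rfl, h0] at this
    simp [A, h1, h2] at this
  · obtain ⟨x, xa, xb, xc, xv, h1, h2⟩ := R.exists_common_non
    have hdeg : ∀ v, v ≠ R.a → v ≠ R.b → ∑ y, A v y = k := fun v va vb => by
      obtain ⟨g, g1, g2, g3⟩ := R.exists_to_base va vb
      rw [← g3, ← Equiv.sum_comp (MulAction.toPerm g) fun y => A (g • R.c) y]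
      have : ∀ y, A (g • R.c) (g • y) = A R.c y := fun y => by simp only [A, R.adj_fix g1 g2]
      simp only [MulAction.toPerm_apply, this]
      rw [R.sum_vertices _ (A0 _ _ fun h => (R.adj_ne h).2.1.1 rfl)
        (A0 _ _ fun h => (R.adj_ne h).2.1.2 rfl), hk, ← hc00]
    let V : Finset Ω := (((Finset.univ.erase R.a).erase R.b).erase R.c).erase R.v1
    have hcardV : (V.card : ℤ) = 2 * q - 2 := by
      simp only [V]
      rw [Finset.card_erase_of_mem (by simp [R.hv1]),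
        Finset.card_erase_of_mem (by simp [R.hca, R.hcb]),
        Finset.card_erase_of_mem (by simp [R.hab.symm]), Finset.card_erase_of_mem (by simp),
        Finset.card_univ, ← Nat.card_eq_fintype_card, R.card]
      have := R.hq3
      omega
    have hoff : ∀ f : Ω → ℤ, ∑ y, f y = ∑ y ∈ V, f y + f R.v1 + f R.c + f R.b + f R.a := fun f => by
      simp only [V]
      rw [Finset.sum_erase_add _ _ (by simp [R.hv1]),
        Finset.sum_erase_add _ _ (by simp [R.hca, R.hcb]),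
        Finset.sum_erase_add _ _ (by simp [R.hab.symm]), Finset.sum_erase_add _ _ (by simp)]
    have z : ∀ v, A v R.a = 0 ∧ A v R.b = 0 := fun v =>
      ⟨A0 _ _ fun h => (R.adj_ne h).2.1.1 rfl, A0 _ _ fun h => (R.adj_ne h).2.1.2 rfl⟩
    have zz : ∀ v, A v v = 0 := fun v => A0 _ _ fun h => (R.adj_ne h).2.2 rfl
    have e1 := hoff fun y => A R.c y
    have e2 := hoff fun y => A R.v1 y
    have e3 := hoff fun y => A R.c y * A R.v1 y
    have hcv : A R.c R.v1 = 1 := if_pos R.adj_c_v1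
    simp only [hdeg R.c R.hca R.hcb, hdeg R.v1 R.hv1.1 R.hv1.2.1,
      show ∑ y, A R.c y * A R.v1 y = l from rfl, z, zz, hcv, Asymm R.v1 R.c, mul_zero, zero_mul,
      add_zero, zero_add] at e1 e2 e3
    have hxV : x ∈ V := by simp [V, xa, xb, xc, xv]
    have hpos : 0 < ∑ y ∈ V, (1 - A R.c y - A R.v1 y + A R.c y * A R.v1 y) :=
      Finset.sum_pos' (fun y _ => by
        rcases A01 R.c y with e | e <;> rcases A01 R.v1 y with e' | e' <;> simp [e, e'])
        ⟨x, hxV, by simp [A0 _ _ h1, A0 _ _ h2]⟩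
    rw [Finset.sum_add_distrib, Finset.sum_sub_distrib, Finset.sum_sub_distrib,
      Finset.sum_const, nsmul_one, hcardV] at hpos
    intro h0
    linarith

end RankThree

end Cfsg.Agent.EvenOvergroup
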