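import Mathlib
import Cfsg.Agent.PermGroups.PrimeDegree

/-!
A two-transitive simple subgroup of order `p (p² - 1) / 2` on `p + 1` points, `p ≡ 3 mod 4`
or not: affine coordinates away from a point, the two-point stabilizer, the swapping involution.
-/

set_option autoImplicit false

namespace Cfsg.Agent.EvenOvergroup

variable {L Ω : Type*} [Group L] [MulAction L Ω]

/-- hypotheses on the two-transitive subgroup -/
structure Hyp (p q : ℕ) (L Ω : Type*) [Group L] [MulAction L Ω] : Prop where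
  hp : p.Prime
  hq : p = 2 * q + 1
  hq1 : 1 < q
  faithful : FaithfulSMul L Ω
  finL : Finite L
  finΩ : Finite Ω
  cardΩ : Nat.card Ω = p + 1
  cardL : Nat.card L = p * (p + 1) * q
  two : ∀ a b a' b' : Ω, a ≠ b → a' ≠ b' → ∃ g : L, g • a = a' ∧ g • b = b'

/-- the pointwise stabilizer of two points -/
def fix2 (L : Type*) {Ω : Type*} [Group L] [MulAction L Ω] (a b : Ω) : Subgroup L :=
  MulAction.stabilizer L a ⊓ MulAction.stabilizer L b

theorem mem_fix2 {a b : Ω} {g : L} : g ∈ fix2 L a b ↔ g • a = a ∧ g • b = b := by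
  simp [fix2]

variable {p q : ℕ}

namespace Hyp

variable (h : Hyp p q L Ω)
include h

theorem transitive : MulAction.IsPretransitive L Ω := ⟨fun a b => by
  haveI := h.finΩ
  classical
  haveI := Fintype.ofFinite Ω
  have hc : 1 < Fintype.card Ω := by
    rw [← Nat.card_eq_fintype_card, h.cardΩ]; have := h.hp.pos; omega
  haveI : Nontrivial Ω := Fintype.one_lt_card_iff_nontrivial.1 hc
  obtain ⟨a', ha'⟩ := exists_ne a
  obtain ⟨b', hb'⟩ := exists_ne b
  obtain ⟨g, hg, -⟩ := h.two a a' b b' ha'.symm hb'.symm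
  exact ⟨g, hg⟩⟩

theorem card_stab (a : Ω) : Nat.card (MulAction.stabilizer L a) = p * q := by
  haveI := h.finL
  haveI := h.transitive
  have h1 := (MulAction.stabilizer L a).card_mul_index
  rw [MulAction.index_stabilizer_of_transitive, h.cardΩ, h.cardL] at h1
  apply Nat.eq_of_mul_eq_mul_right (show 0 < p + 1 by omega)
  rw [h1]; ring

theorem stab_transitive (a : Ω) :
    MulAction.IsPretransitive (MulAction.stabilizer L a) (SubMulAction.ofStabilizer L a) :=
  ⟨fun x y => by
    obtain ⟨g, hga, hgx⟩ := h.two a x.1 a y.1 (fun e => x.2 e.symm) (fun e => y.2 e.symm)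
    exact ⟨⟨g, hga⟩, Subtype.ext hgx⟩⟩

theorem card_fix2 {a b : Ω} (hab : a ≠ b) : Nat.card (fix2 L a b) = q := by
  haveI := h.finL
  haveI := h.finΩ
  haveI := h.stab_transitive a
  classical
  haveI := Fintype.ofFinite Ω
  set b' : SubMulAction.ofStabilizer L a := ⟨b, fun e => hab (Set.mem_singleton_iff.1 e).symm⟩
  have h1 := (MulAction.stabilizer (MulAction.stabilizer L a) b').card_mul_index
  rw [MulAction.index_stabilizer_of_transitive, h.card_stab] at h1
  have hc : Nat.card (SubMulAction.ofStabilizer L a) = p := by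
    have := SubMulAction.nat_card_ofStabilizer_eq (G := L) a
    rw [h.cardΩ] at this
    simpa using this
  rw [hc, mul_comm p q] at h1
  rw [← Nat.eq_of_mul_eq_mul_right h.hp.pos h1]
  refine Nat.card_congr
    { toFun := fun g => ⟨⟨g.1, (mem_fix2.1 g.2).1⟩, Subtype.ext (mem_fix2.1 g.2).2⟩
      invFun := fun g => ⟨g.1.1, mem_fix2.2 ⟨g.1.2, congrArg Subtype.val g.2⟩⟩
      left_inv := fun g => rfl
      right_inv := fun g => rfl }

theorem odd_q (h3 : p % 4 = 3) : Odd q := by
  have := h.hq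
  exact Nat.odd_iff.2 (by omega)

/-- an element of order two fixes no point -/
theorem fpf (h3 : p % 4 = 3) {g : L} (hg : g * g = 1) {a : Ω} (ha : g • a = a) : g = 1 := by
  haveI := h.finL
  have hd : orderOf g ∣ Nat.card (MulAction.stabilizer L a) :=
    (Subgroup.orderOf_dvd_natCard _ (show g ∈ MulAction.stabilizer L a from ha))
  rw [h.card_stab] at hd
  have h2 : orderOf g ∣ 2 := orderOf_dvd_of_pow_eq_one (by rw [sq]; exact hg)
  have hco : Nat.Coprime (p * q) 2 := by
    refine Nat.coprime_two_right.2 (Odd.mul ?_ (h.odd_q h3))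
    exact Nat.odd_iff.2 (by omega)
  rw [← orderOf_eq_one_iff]
  exact Nat.eq_one_of_dvd_one (hco ▸ Nat.dvd_gcd hd h2)

end Hyp

/-- affine coordinates away from `pt` -/
structure Coord (p : ℕ) (L Ω : Type*) [Group L] [MulAction L Ω] where
  pt : Ω
  e : ZMod p → Ω
  inj : Function.Injective e
  ne : ∀ i, e i ≠ pt
  surj : ∀ x, x ≠ pt → ∃ i, e i = x
  shift : ∀ t, ∃ g : L, g • pt = pt ∧ ∀ i, g • e i = e (i + t)
  aff : ∀ g : L, g • pt = pt → ∃ c k : ZMod p, ∀ i, g • e i = e (c + k * i)

namespace Hyp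

variable (h : Hyp p q L Ω)
include h

theorem exists_coord' : Nonempty (Coord p L Ω) := by
  classical
  haveI := h.finL
  haveI := h.finΩ
  haveI := h.faithful
  haveI := Fintype.ofFinite Ω
  haveI := Fact.mk h.hp
  obtain ⟨a⟩ : Nonempty Ω := (Nat.card_pos_iff.1 (by rw [h.cardΩ]; omega)).1
  haveI := h.stab_transitive a
  set S := SubMulAction.ofStabilizer L a
  set φ := MulAction.toPermHom (MulAction.stabilizer L a) S
  have hinj : Function.Injective φ := fun g g' e => Subtype.ext (eq_of_smul_eq_smul fun x : Ω => by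
    by_cases hx : x = a
    · subst hx
      exact g.2.trans g'.2.symm
    · exact congrArg Subtype.val
        (DFunLike.congr_fun e (⟨x, fun e => hx (Set.mem_singleton_iff.1 e)⟩ : S)))
  haveI : MulAction.IsPretransitive φ.range S := ⟨fun x y => by
    obtain ⟨g, hg⟩ := MulAction.exists_smul_eq (MulAction.stabilizer L a) x y
    exact ⟨⟨_, g, rfl⟩, hg⟩⟩
  have hcS : Fintype.card S = p := by
    rw [← Nat.card_eq_fintype_card]
    have := SubMulAction.nat_card_ofStabilizer_eq (G := L) a
    rw [h.cardΩ] at this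
    simpa using this
  obtain ⟨e, τ, hτ, hτe⟩ := Cfsg.Lib.PermGroups.PrimeDegree.exists_coord hcS φ.range
  obtain ⟨P, hP⟩ := Cfsg.Lib.PermGroups.PrimeDegree.sylow_coord hcS φ.range hτ hτe
  have hcard : Nat.card φ.range = p * q := by
    rw [← Nat.card_congr (MonoidHom.ofInjective hinj).toEquiv, h.card_stab]
  have hn : Nat.card (Sylow p φ.range) = 1 := by
    have h1 : Nat.card (Sylow p φ.range) ∣ p * q := by
      rw [← hcard, P.card_eq_index_normalizer]
      exact Subgroup.index_dvd_card _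
    have h2 : Nat.card (Sylow p φ.range) % p = 1 := by
      have := card_sylow_modEq_one p φ.range
      rwa [Nat.ModEq, Nat.mod_eq_of_lt h.hp.one_lt] at this
    have hco : Nat.Coprime (Nat.card (Sylow p φ.range)) p := by
      refine Nat.Coprime.symm (h.hp.coprime_iff_not_dvd.2 fun hd => ?_)
      rw [Nat.dvd_iff_mod_eq_zero] at hd
      omega
    have h3 := hco.dvd_of_dvd_mul_left h1
    have h4 := Nat.le_of_dvd (by have := h.hq1; omega) h3
    rw [Nat.mod_eq_of_lt (by have := h.hq; omega)] at h2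
    exact h2
  haveI : Subsingleton (Sylow p φ.range) := (Nat.card_eq_one_iff_unique.1 hn).1
  haveI : (P : Subgroup φ.range).Normal := P.normal_of_subsingleton
  have haff : ∀ g : MulAction.stabilizer L a, ∃ c k : ZMod p, ∀ i,
      e.symm (φ g (e i)) = c + k * i := fun g => by
    refine Cfsg.Lib.PermGroups.PrimeDegree.affine_of_conj hτe ?_
    have hm := (inferInstance : (P : Subgroup φ.range).Normal).conj_mem ⟨τ, hτ⟩
      (by rw [hP]; exact Subgroup.mem_zpowers _) ⟨φ g, g, rfl⟩
    rw [hP] at hm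
    obtain ⟨n, hn⟩ := Subgroup.mem_zpowers_iff.1 hm
    exact ⟨n, congrArg Subtype.val hn⟩
  refine ⟨⟨a, fun i => (e i : Ω), fun i j hij => e.injective (Subtype.ext hij),
    fun i hi => (e i).2 (Set.mem_singleton_iff.2 hi), fun x hx => ?_, fun t => ?_, fun g hg => ?_⟩⟩
  · exact ⟨e.symm ⟨x, fun e => hx (Set.mem_singleton_iff.1 e)⟩, by simp⟩
  · obtain ⟨g, hg⟩ : τ ^ t.val ∈ φ.range := Subgroup.pow_mem _ hτ _
    refine ⟨g.1, g.2, fun i => ?_⟩
    have := congrArg (fun σ : Equiv.Perm S => (σ (e i) : Ω)) hg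
    simp only [Cfsg.Lib.PermGroups.PrimeDegree.pow_apply_coord hτe, ZMod.natCast_zmod_val] at this
    exact this
  · obtain ⟨c, k, hck⟩ := haff ⟨g, hg⟩
    refine ⟨c, k, fun i => ?_⟩
    have := congrArg (fun z => (e z : Ω)) (hck i)
    simp only [Equiv.apply_symm_apply] at this
    exact this

end Hyp

namespace Coord

variable (C : Coord p L Ω)

/-- the multiplier of an element fixing `pt` and the origin -/
theorem exists_mul {g : L} (hg : g ∈ fix2 L C.pt (C.e 0)) :
    ∃ k : ZMod p, ∀ i, g • C.e i = C.e (k * i) := by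
  obtain ⟨h1, h2⟩ := mem_fix2.1 hg
  obtain ⟨c, k, hck⟩ := C.aff g h1
  have : c = 0 := by
    have := hck 0
    rw [h2, mul_zero, add_zero] at this
    exact (C.inj this).symm
  exact ⟨k, fun i => by rw [hck, this, zero_add]⟩

theorem ext_fix [FaithfulSMul L Ω] {g g' : L} (h0 : g • C.pt = g' • C.pt)
    (he : ∀ i, g • C.e i = g' • C.e i) : g = g' :=
  eq_of_smul_eq_smul fun x : Ω => by
    by_cases hx : x = C.pt
    · rw [hx, h0]
    · obtain ⟨i, rfl⟩ := C.surj x hx
      exact he i

end Coord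

namespace Hyp

variable (h : Hyp p q L Ω) (C : Coord p L Ω)
include h

theorem mul_of_fix2 {g : L} (hg : g ∈ fix2 L C.pt (C.e 0)) :
    ∃ k : ZMod p, IsSquare k ∧ k ≠ 0 ∧ ∀ i, g • C.e i = C.e (k * i) := by
  haveI := Fact.mk h.hp
  haveI := h.finL
  obtain ⟨k, hk⟩ := C.exists_mul hg
  have hk0 : k ≠ 0 := fun h0 => by
    have h1 : g • C.e 1 = g • C.e 0 := by rw [hk, hk, h0, zero_mul, zero_mul]
    exact one_ne_zero (C.inj (smul_left_cancel g h1))
  refine ⟨k, ?_, hk0, hk⟩
  have hord : g ^ q = 1 := by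
    have := Subgroup.orderOf_dvd_natCard _ hg
    rw [h.card_fix2 (C.ne 0).symm] at this
    exact orderOf_dvd_iff_pow_eq_one.1 this
  have hpow : ∀ (n : ℕ) i, g ^ n • C.e i = C.e (k ^ n * i) := by
    intro n
    induction n with
    | zero => simp
    | succ n ih =>
      intro i
      rw [pow_succ', mul_smul, ih, hk, pow_succ', mul_assoc]
  rw [ZMod.euler_criterion p hk0, show p / 2 = q by have := h.hq; omega]
  have := hpow q 1
  rw [hord, one_smul, mul_one] at this
  exact (C.inj this).symm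

theorem sq_mul {k : ZMod p} (hk : IsSquare k) (hk0 : k ≠ 0) :
    ∃ g : L, g • C.pt = C.pt ∧ ∀ i, g • C.e i = C.e (k * i) := by
  classical
  haveI := Fact.mk h.hp
  haveI := h.finL
  haveI := h.faithful
  set T := fix2 L C.pt (C.e 0)
  choose m hm0 hm using fun g : T => C.exists_mul g.2 |>.imp fun k hk =>
    (⟨fun h0 => by
      have h1 : g.1 • C.e 1 = g.1 • C.e 0 := by rw [hk, hk, h0, zero_mul, zero_mul]
      exact one_ne_zero (C.inj (smul_left_cancel g.1 h1)), hk⟩ :
      k ≠ 0 ∧ ∀ i, g.1 • C.e i = C.e (k * i))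
  let θ : T →* (ZMod p)ˣ :=
    { toFun := fun g => Units.mk0 (m g) (hm0 g)
      map_one' := Units.ext (C.inj (by
        show C.e (m 1) = C.e 1
        rw [← mul_one (m 1), ← hm]; simp))
      map_mul' := fun a b => Units.ext (C.inj (by
        show C.e (m (a * b)) = C.e (m a * m b)
        rw [← mul_one (m (a * b)), ← hm, Subgroup.coe_mul, mul_smul, hm, hm, mul_one])) }
  have hinj : Function.Injective θ := fun a b e => Subtype.ext (C.ext_fix
    ((mem_fix2.1 a.2).1.trans (mem_fix2.1 b.2).1.symm) fun i => by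
      rw [hm, hm, show m a = m b from congrArg Units.val e])
  have hidx : θ.range.index = 2 := by
    have h1 := θ.range.card_mul_index
    rw [← Nat.card_congr (MonoidHom.ofInjective hinj).toEquiv, h.card_fix2 (C.ne 0).symm,
      Nat.card_eq_fintype_card, ZMod.card_units] at h1
    apply Nat.eq_of_mul_eq_mul_left (show 0 < q by have := h.hq1; omega)
    rw [h1]; have := h.hq; omega
  obtain ⟨r, rfl⟩ := hk
  obtain ⟨g, hg⟩ := Subgroup.sq_mem_of_index_two hidx
    (Units.mk0 r fun h0 => hk0 (by rw [h0, mul_zero]))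
  refine ⟨g.1, (mem_fix2.1 g.2).1, fun i => ?_⟩
  rw [hm]
  congr 2
  have := congrArg Units.val hg
  simpa [θ, sq] using this

/-- a nontrivial element of a two-point stabilizer fixes no third point -/
theorem fix_third {g : L} (hg : g ∈ fix2 L C.pt (C.e 0)) {x : Ω} (hx : x ≠ C.pt) (hx0 : x ≠ C.e 0)
    (hgx : g • x = x) : g = 1 := by
  haveI := Fact.mk h.hp
  haveI := h.faithful
  obtain ⟨k, hk⟩ := C.exists_mul hg
  obtain ⟨i, rfl⟩ := C.surj x hx
  have hi : i ≠ 0 := fun e => hx0 (by rw [e])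
  have hk1 : k = 1 := by
    rw [hk] at hgx
    exact mul_right_cancel₀ hi ((C.inj hgx).trans (one_mul i).symm)
  exact C.ext_fix (by rw [(mem_fix2.1 hg).1, one_smul])
    fun i => by rw [hk, hk1, one_mul, one_smul]

theorem commute_fix2 {g g' : L} (hg : g ∈ fix2 L C.pt (C.e 0))
    (hg' : g' ∈ fix2 L C.pt (C.e 0)) : g * g' = g' * g := by
  haveI := h.faithful
  obtain ⟨k, hk⟩ := C.exists_mul hg
  obtain ⟨k', hk'⟩ := C.exists_mul hg'
  obtain ⟨h1, -⟩ := mem_fix2.1 hg
  obtain ⟨h1', -⟩ := mem_fix2.1 hg'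
  refine C.ext_fix (by rw [mul_smul, mul_smul, h1, h1', h1]) fun i => ?_
  rw [mul_smul, mul_smul, hk', hk, hk, hk', mul_left_comm]

theorem cyclic_fix2 : IsCyclic (fix2 L C.pt (C.e 0)) := by
  classical
  haveI := Fact.mk h.hp
  haveI := h.finL
  haveI := h.faithful
  choose m hm using fun g : fix2 L C.pt (C.e 0) => C.exists_mul g.2
  let θ : fix2 L C.pt (C.e 0) →* ZMod p :=
    { toFun := m
      map_one' := C.inj (by rw [← mul_one (m 1), ← hm]; simp)
      map_mul' := fun a b => C.inj (by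
        rw [← mul_one (m (a * b)), ← hm, Subgroup.coe_mul, mul_smul, hm, hm, mul_one]) }
  exact isCyclic_of_subgroup_isDomain θ fun a b e => Subtype.ext (C.ext_fix
    ((mem_fix2.1 a.2).1.trans (mem_fix2.1 b.2).1.symm) fun i => by
      rw [hm, hm, show m a = m b from e])

/-- an involution swapping the two points inverts their stabilizer -/
theorem exists_inverting [IsSimpleGroup L] (h3 : p % 4 = 3) :
    ∃ s : L, s * s = 1 ∧ s • C.pt = C.e 0 ∧ s • C.e 0 = C.pt ∧
      ∀ t ∈ fix2 L C.pt (C.e 0), s * t * s = t⁻¹ := by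
  classical
  haveI := h.finL
  haveI := h.faithful
  set T := fix2 L C.pt (C.e 0) with hT
  have hq := h.odd_q h3
  obtain ⟨g, hg1, hg2⟩ := h.two C.pt (C.e 0) (C.e 0) C.pt (C.ne 0).symm (C.ne 0)
  obtain ⟨s, hs1, hs2, hs⟩ : ∃ s : L, s * s = 1 ∧ s • C.pt = C.e 0 ∧ s • C.e 0 = C.pt := by
    have hg : g * g ∈ T := mem_fix2.2 ⟨by rw [mul_smul, hg1, hg2], by rw [mul_smul, hg2, hg1]⟩
    have hgq : (g * g) ^ q = 1 := by
      have := Subgroup.orderOf_dvd_natCard _ hg
      rw [h.card_fix2 (C.ne 0).symm] at this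
      exact orderOf_dvd_iff_pow_eq_one.1 this
    obtain ⟨j, hj⟩ := hq
    refine ⟨g ^ q, ?_, ?_, ?_⟩
    · rw [← pow_two, ← pow_mul, mul_comm, pow_mul, pow_two, hgq]
    all_goals rw [hj, pow_succ, pow_mul, pow_two, mul_smul]
    · rw [hg1]; exact (mem_fix2.1 (Subgroup.pow_mem _ hg j)).2
    · rw [hg2]; exact (mem_fix2.1 (Subgroup.pow_mem _ hg j)).1
  have hsinv : s⁻¹ = s := inv_eq_of_mul_eq_one_right hs1
  have hnorm : ∀ t ∈ T, s * t * s ∈ T := fun t ht => by
    obtain ⟨h1, h2⟩ := mem_fix2.1 ht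
    exact mem_fix2.2 ⟨by rw [mul_smul, mul_smul, hs2, h2, hs],
      by rw [mul_smul, mul_smul, hs, h1, hs2]⟩
  refine ⟨s, hs1, hs2, hs, ?_⟩
  suffices hfix : ∀ t ∈ T, s * t * s = t → t = 1 by
    intro t ht
    refine eq_inv_of_mul_eq_one_left (hfix _ (T.mul_mem (hnorm t ht) ht) ?_)
    calc s * (s * t * s * t) * s = (s * s) * t * (s * t * s) := by group
      _ = s * t * s * t := by rw [hs1, one_mul, h.commute_fix2 C ht (hnorm t ht)]
  intro t ht hts
  by_contra ht1
  have hord1 : orderOf t ≠ 1 := fun e => ht1 (orderOf_eq_one_iff.1 e)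
  obtain ⟨r, hr, hrd⟩ := Nat.exists_prime_and_dvd hord1
  haveI := Fact.mk hr
  set x := t ^ (orderOf t / r) with hx
  have hxT : x ∈ T := T.pow_mem ht _
  have hxr : orderOf x = r := orderOf_pow_orderOf_div (orderOf_pos t).ne' hrd
  have hxs : s * x * s = x := by
    have hc : Commute s t := by
      calc s * t = s * t * (s * s) := by rw [hs1, mul_one]
        _ = (s * t * s) * s := by group
        _ = t * s := by rw [hts]
    rw [hx, (hc.pow_right _).eq, mul_assoc, hs1, mul_one]
  have hrq : r ∣ q := by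
    have := Subgroup.orderOf_dvd_natCard _ hxT
    rwa [h.card_fix2 (C.ne 0).symm, hxr] at this
  have hr2 : r ≠ 2 := fun e => by
    subst e
    exact (Nat.not_even_iff_odd.2 hq) (even_iff_two_dvd.2 hrq)
  obtain ⟨R0⟩ : Nonempty (Sylow r T) := inferInstance
  set R : Subgroup L := (R0 : Subgroup T).map T.subtype with hR
  have hRT : R ≤ T := Subgroup.map_subtype_le _
  have hcR : Nat.card R = r ^ (Nat.card L).factorization r := by
    rw [hR, Subgroup.card_map_of_injective T.subtype_injective, R0.card_eq_multiplicity,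
      h.card_fix2 (C.ne 0).symm, h.cardL]
    congr 1
    have hp0 : p * (p + 1) ≠ 0 := Nat.mul_ne_zero h.hp.pos.ne' (by omega)
    rw [Nat.factorization_mul hp0 (by have := h.hq1; omega), Finsupp.add_apply,
      Nat.factorization_eq_zero_of_not_dvd (n := p * (p + 1)), zero_add]
    intro hd
    rcases hr.dvd_mul.1 hd with hd | hd
    · have : r = p := (Nat.prime_dvd_prime_iff_eq hr h.hp).1 hd
      have := Nat.le_of_dvd (by have := h.hq1; omega) hrq
      have := h.hq
      omega
    · have h2q : r ∣ 2 * q + 2 := by rw [show 2 * q + 2 = p + 1 by have := h.hq; omega]; exact hd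
      have : r ∣ 2 := (Nat.dvd_add_right (dvd_mul_of_dvd_right hrq 2)).1 h2q
      exact hr2 ((Nat.prime_dvd_prime_iff_eq hr Nat.prime_two).1 this)
  let PR : Sylow r L := Sylow.ofCard R hcR
  have hxR : x ∈ R := by
    haveI := h.cyclic_fix2 C
    letI : CommGroup T := IsCyclic.commGroup
    haveI : (R0 : Subgroup T).Normal := inferInstance
    refine ⟨⟨x, hxT⟩, ?_, rfl⟩
    have hp' : IsPGroup r (Subgroup.zpowers (⟨x, hxT⟩ : T)) := IsPGroup.of_card (n := 1) (by
      rw [Nat.card_zpowers, pow_one, ← hxr, ← Subgroup.orderOf_coe])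
    obtain ⟨P1, hP1⟩ := hp'.exists_le_sylow
    haveI := R0.unique_of_normal inferInstance
    rw [Subsingleton.elim P1 R0] at hP1
    exact hP1 (Subgroup.mem_zpowers _)
  -- `s` centralizes `R`
  have hsR : ∀ y ∈ R, s * y * s = y := by
    intro y hy
    have hyT := hRT hy
    set v := y⁻¹ * (s * y * s) with hv
    suffices v = 1 from (inv_mul_eq_one.1 this).symm
    have hvT : v ∈ T := T.mul_mem (T.inv_mem hyT) (hnorm y hyT)
    have hvs : s * v * s = v⁻¹ := by
      calc s * (y⁻¹ * (s * y * s)) * s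
          = (s⁻¹ * y⁻¹ * s) * y * (s * s) := by rw [hsinv]; group
        _ = _ := by rw [hs1, mul_one, hsinv, hv, mul_inv_rev, inv_inv, mul_inv_rev, mul_inv_rev, hsinv, mul_assoc s y⁻¹ s]
    by_contra hv1
    have hyr : ∃ n, y ^ r ^ n = 1 := by
      obtain ⟨n, hn⟩ := R0.isPGroup'.map T.subtype ⟨y, hy⟩
      exact ⟨n, by simpa using! congrArg Subtype.val hn⟩
    obtain ⟨n, hn⟩ := hyr
    have hvn : v ^ r ^ n = 1 := by
      have hc : Commute y⁻¹ (s * y * s) := h.commute_fix2 C (T.inv_mem hyT) (hnorm y hyT)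
      rw [hv, hc.mul_pow, inv_pow, hn, inv_one, one_mul,
        show s * y * s = s * y * s⁻¹ by rw [hsinv], conj_pow, hn, mul_one, mul_inv_cancel]
    obtain ⟨m, -, hm⟩ := (Nat.dvd_prime_pow hr).1 (orderOf_dvd_of_pow_eq_one hvn)
    have hm0 : m ≠ 0 := fun e => hv1 (orderOf_eq_one_iff.1 (by rw [hm, e, pow_zero]))
    set w := v ^ (orderOf v / r)
    have hwr : orderOf w = r := orderOf_pow_orderOf_div (orderOf_pos v).ne'
      (hm ▸ dvd_pow_self r hm0)
    haveI := h.cyclic_fix2 C
    have hw : w ∈ Subgroup.zpowers x := by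
      haveI := Fintype.ofFinite T
      set x' : T := ⟨x, hxT⟩
      set w' : T := ⟨w, T.pow_mem hvT _⟩
      have hox : orderOf x' = r := (Subgroup.orderOf_mk _ _).trans hxr
      have how : orderOf w' = r := (Subgroup.orderOf_mk _ _).trans hwr
      have hsub : (Subgroup.zpowers x' : Set T).toFinset ⊆ Finset.univ.filter fun a => a ^ r = 1 := by
        intro a ha
        refine Finset.mem_filter.2 ⟨Finset.mem_univ _, orderOf_dvd_iff_pow_eq_one.1 ?_⟩
        rw [← hox]
        exact orderOf_dvd_of_mem_zpowers (Set.mem_toFinset.1 ha)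
      have heq := Finset.eq_of_subset_of_card_le hsub
        ((IsCyclic.card_pow_eq_one_le hr.pos).trans (by
          rw [Set.toFinset_card, ← Nat.card_eq_fintype_card]
          exact ((Nat.card_zpowers x').trans hox).ge))
      have hw' : w' ∈ (Subgroup.zpowers x' : Set T).toFinset := by
        rw [heq]
        exact Finset.mem_filter.2 ⟨Finset.mem_univ _, how ▸ pow_orderOf_eq_one w'⟩
      obtain ⟨k, hk⟩ := Subgroup.mem_zpowers_iff.1 (Set.mem_toFinset.1 hw')
      exact ⟨k, congrArg Subtype.val hk⟩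
    obtain ⟨k, hk⟩ := hw
    have hw1 : s * w * s = w := by
      rw [← hk]
      have hc : Commute s x := by
        calc s * x = s * x * (s * s) := by rw [hs1, mul_one]
          _ = (s * x * s) * s := by group
          _ = x * s := by rw [hxs]
      show s * x ^ k * s = x ^ k
      rw [(hc.zpow_right k).eq, mul_assoc, hs1, mul_one]
    have hw2 : s * w * s = w⁻¹ := by
      show s * v ^ _ * s = (v ^ _)⁻¹
      rw [show ∀ z, s * z * s = s * z * s⁻¹ from fun z => by rw [hsinv], ← conj_pow,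
        hsinv, hvs, inv_pow]
    have : w ^ 2 = 1 := by
      rw [sq]; nth_rewrite 1 [← hw1]; rw [hw2, inv_mul_cancel]
    have := orderOf_dvd_of_pow_eq_one this
    rw [hwr] at this
    exact hr2 ((Nat.prime_dvd_prime_iff_eq hr Nat.prime_two).1 this)
  -- Burnside transfer
  have hle : Subgroup.normalizer ((PR : Subgroup L) : Set L) ≤
      Subgroup.centralizer ((PR : Subgroup L) : Set L) := by
    intro n hn y hy
    have hn' : ∀ z, z ∈ R ↔ n * z * n⁻¹ ∈ R := fun z => Subgroup.mem_normalizer_iff.1 hn z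
    have hy' : y ∈ R := hy
    have hmem : n⁻¹ * x * n ∈ T := hRT ((hn' _).2 (by simpa [mul_assoc] using hxR))
    have hx1 : x ≠ 1 := fun e => hr.ne_one (by rw [← hxr, e, orderOf_one])
    have hpts : ∀ z, z = C.pt ∨ z = C.e 0 → n • z = C.pt ∨ n • z = C.e 0 := by
      intro z hz
      by_contra hne
      push Not at hne
      apply hx1
      refine h.fix_third C hxT hne.1 hne.2 ?_
      have hfix : (n⁻¹ * x * n) • z = z := by
        obtain ⟨h1, h2⟩ := mem_fix2.1 hmem
        rcases hz with rfl | rfl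
        · exact h1
        · exact h2
      rw [mul_smul, mul_smul, inv_smul_eq_iff] at hfix
      exact hfix
    have hcomm : ∀ z ∈ T, z * y = y * z := fun z hz => h.commute_fix2 C hz (hRT hy')
    have hys : s * y = y * s := by
      calc s * y = s * y * (s * s) := by rw [hs1, mul_one]
        _ = (s * y * s) * s := by group
        _ = y * s := by rw [hsR y hy']
    have hne := (C.ne 0).symm
    rcases hpts _ (Or.inl rfl) with hn1 | hn1 <;> rcases hpts _ (Or.inr rfl) with hn2 | hn2
    · exact absurd (smul_left_cancel n (hn1.trans hn2.symm)) hne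
    · exact (hcomm n (mem_fix2.2 ⟨hn1, hn2⟩)).symm
    · have hns : n * s ∈ T := mem_fix2.2 ⟨by rw [mul_smul, hs2, hn2], by rw [mul_smul, hs, hn1]⟩
      have hn_eq : n = n * s * s := by rw [mul_assoc, hs1, mul_one]
      rw [hn_eq, mul_assoc (n * s) s y, hys, ← mul_assoc (n * s), hcomm _ hns]
      simp only [mul_assoc]
    · exact absurd (smul_left_cancel n (hn1.trans hn2.symm)) hne
  have hcomp := MonoidHom.ker_transferSylow_isComplement' PR hle
  rcases IsSimpleGroup.eq_bot_or_eq_top_of_normal (MonoidHom.transferSylow PR hle).ker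
    inferInstance with hK | hK
  · rw [hK, Subgroup.isComplement'_bot_left] at hcomp
    have hdvd : p ∣ Nat.card L := h.cardL ▸ dvd_mul_of_dvd_left (dvd_mul_right p _) q
    rw [← Subgroup.card_top, ← hcomp] at hdvd
    rw [show Nat.card (PR : Subgroup L) = Nat.card R from rfl, hcR] at hdvd
    have := (Nat.prime_dvd_prime_iff_eq h.hp hr).1 (h.hp.dvd_of_dvd_pow hdvd)
    have := Nat.le_of_dvd (by have := h.hq1; omega) hrq
    have := h.hq
    omega
  · rw [hK, Subgroup.isComplement'_top_left] at hcomp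
    have hxb : x ∈ (⊥ : Subgroup L) := hcomp ▸ hxR
    exact hr.ne_one (by rw [← hxr, Subgroup.mem_bot.1 hxb, orderOf_one])

end Hyp

end Cfsg.Agent.EvenOvergroup
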