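import Mathlib
import Cfsg.Agent.PermGroups.EvenOvergroup.Line
import Cfsg.Agent.PermGroups.EvenOvergroup.Graph
import Cfsg.Agent.PrimeDegreeHalf.Main
import Cfsg.Agent.Blocks.SmallOrder.Basic
import Cfsg.Agent.Classical.Misc.SmallPSL

/-!
A proper even overgroup of `PSL(2, p)` on the projective line is four-transitive.
-/

set_option autoImplicit false

namespace Cfsg.Agent.EvenOvergroup

section

variable {G Ω : Type*} [Group G] [Finite G] [MulAction G Ω] [FaithfulSMul G Ω]

/-- a solvable transitive group of prime degree has a normal transitive subgroup of order `p` -/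
theorem exists_normal_of_solvable {p : ℕ} (hp : p.Prime) (hΩ : Nat.card Ω = p)
    [MulAction.IsPretransitive G Ω] [Group.IsSolvable G] :
    ∃ N : Subgroup G, N.Normal ∧ Nat.card N = p := by
  classical
  haveI : Finite Ω := Nat.finite_of_card_ne_zero (by rw [hΩ]; exact hp.pos.ne')
  haveI : Nonempty Ω := (Nat.card_pos_iff.1 (by rw [hΩ]; exact hp.pos)).1
  haveI := MulAction.IsPreprimitive.of_prime_card (G := G) (X := Ω) (hΩ ▸ hp)
  haveI : Nontrivial G := by
    by_contra hn
    rw [not_nontrivial_iff_subsingleton] at hn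
    obtain ⟨a⟩ := (inferInstance : Nonempty Ω)
    have : Nat.card Ω ≤ 1 := Finite.card_le_one_iff_subsingleton.2 ⟨fun x y => by
      obtain ⟨g, hg⟩ := MulAction.exists_smul_eq G x y
      rw [← hg, Subsingleton.elim g 1, one_smul]⟩
    have := hp.one_lt
    omega
  -- the last nontrivial term of the derived series
  obtain ⟨n, hn⟩ := Group.IsSolvable.solvable (G := G)
  have hex : ∃ n, derivedSeries G n = ⊥ := ⟨n, hn⟩
  set m := Nat.find hex with hm
  have hm0 : m ≠ 0 := fun e => by
    have := Nat.find_spec hex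
    rw [← hm, e, derivedSeries_zero] at this
    exact top_ne_bot this
  obtain ⟨j, hj⟩ := Nat.exists_eq_succ_of_ne_zero hm0
  set N := derivedSeries G j with hN
  have hNne : N ≠ ⊥ := Nat.find_min hex (by omega)
  have hNbot : ⁅N, N⁆ = ⊥ := by
    have := Nat.find_spec hex
    rw [← hm, hj, derivedSeries_succ] at this
    exact this
  have hcomm : ∀ a ∈ N, ∀ b ∈ N, a * b = b * a := fun a ha b hb => by
    have := Subgroup.commutator_mem_commutator ha hb
    rw [hNbot, Subgroup.mem_bot, commutatorElement_eq_one_iff_mul_comm] at this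
    exact this
  haveI : N.Normal := derivedSeries_normal G j
  refine ⟨N, inferInstance, ?_⟩
  have hfix : MulAction.fixedPoints N Ω ≠ Set.univ := fun h => hNne (by
    rw [eq_bot_iff]
    intro g hg
    refine Subgroup.mem_bot.2 (eq_of_smul_eq_smul fun x : Ω => ?_)
    rw [one_smul]
    exact (h.symm ▸ Set.mem_univ x : x ∈ MulAction.fixedPoints N Ω) ⟨g, hg⟩)
  haveI := MulAction.IsQuasiPreprimitive.isPretransitive_of_normal (G := G) (X := Ω) hfix
  obtain ⟨a⟩ := (inferInstance : Nonempty Ω)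
  have hst : MulAction.stabilizer N a = ⊥ := by
    rw [eq_bot_iff]
    intro g hg
    refine Subgroup.mem_bot.2 (Subtype.ext (eq_of_smul_eq_smul fun x : Ω => ?_))
    obtain ⟨k, rfl⟩ := MulAction.exists_smul_eq N a x
    have hga : (g : G) • a = a := hg
    rw [Subgroup.coe_one, one_smul, Subgroup.smul_def k a, ← mul_smul,
      hcomm _ g.2 _ k.2, mul_smul, hga]
  have h1 := (MulAction.stabilizer N a).card_mul_index
  rw [MulAction.index_stabilizer_of_transitive, hst, Subgroup.card_bot, one_mul, hΩ] at h1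
  exact h1.symm

end

variable {X Ω : Type*} [Group X] [Finite X] [MulAction X Ω] [FaithfulSMul X Ω] [Fintype Ω]
  [DecidableEq Ω] {p q : ℕ} {L : Subgroup X}

/-- an affine element fixing `pt` lies in `L` -/
theorem mem_of_affine (h : Hyp p q L Ω) (C : Coord p L Ω)
    (heven : ∀ x : X, Equiv.Perm.sign (MulAction.toPerm x : Equiv.Perm Ω) = 1) {g : X}
    (hg : g • C.pt = C.pt) {c k : ZMod p} (hck : ∀ i, g • C.e i = C.e (c + k * i)) : g ∈ L := by
  classical
  haveI := Fact.mk h.hp
  have hk0 : k ≠ 0 := fun h0 => one_ne_zero (C.inj (smul_left_cancel g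
    (by rw [hck, hck, h0, zero_mul, zero_mul] : g • C.e 1 = g • C.e 0)))
  obtain ⟨τ, hτ1, hτ2⟩ := C.shift (-c)
  set g' : X := (τ : X) * g
  have hτ1' : (τ : X) • C.pt = C.pt := hτ1
  have hτ2' : ∀ i, (τ : X) • C.e i = C.e (i + -c) := hτ2
  have h1 : g' • C.pt = C.pt := by rw [mul_smul, hg, hτ1']
  have h2 : ∀ i, g' • C.e i = C.e (k * i) := fun i => by
    rw [mul_smul, hck, hτ2', add_comm c, add_neg_cancel_right]
  suffices hsq : IsSquare k by
    obtain ⟨l, hl1, hl2⟩ := h.sq_mul C hsq hk0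
    have : g' = (l : X) := eq_of_smul_eq_smul fun x : Ω => by
      by_cases hx : x = C.pt
      · rw [hx, h1]; exact hl1.symm
      · obtain ⟨i, rfl⟩ := C.surj x hx
        rw [h2]; exact (hl2 i).symm
    rw [show g = (τ : X)⁻¹ * g' by simp [g'], this]
    exact L.mul_mem (L.inv_mem τ.2) l.2
  -- otherwise a generator of the units would act as an even permutation
  by_contra hns
  obtain ⟨a, ha⟩ := IsCyclic.exists_generator (α := (ZMod p)ˣ)
  have hp3 : 3 ≤ p := by have := h.hq; have := h.hq1; omega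
  have hna : ¬ IsSquare (a : ZMod p) := by
    intro hsa
    obtain ⟨n, hn⟩ := (isOfFinOrder_of_finite a).mem_powers_iff_mem_zpowers.2 (ha (Units.mk0 k hk0))
    apply hns
    have : (a : ZMod p) ^ n = k := by simpa using congrArg Units.val hn
    rw [← this]
    exact hsa.pow n
  have hp2 : ringChar (ZMod p) ≠ 2 := by
    rw [ZMod.ringChar_zmod_n]; omega
  have hsq : IsSquare ((a : ZMod p) * k⁻¹) := by
    rw [← quadraticChar_one_iff_isSquare (mul_ne_zero a.ne_zero (inv_ne_zero hk0)), map_mul,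
      (quadraticChar_neg_one_iff_not_isSquare).2 hna,
      (quadraticChar_neg_one_iff_not_isSquare).2 fun hi => hns (isSquare_inv.1 hi)]
    rfl
  obtain ⟨l, hl1, hl2⟩ := h.sq_mul C hsq (mul_ne_zero a.ne_zero (inv_ne_zero hk0))
  have hl1' : (l : X) • C.pt = C.pt := hl1
  have hl2' : ∀ i, (l : X) • C.e i = C.e ((a : ZMod p) * k⁻¹ * i) := hl2
  have e2 : ∀ i, ((l : X) * g') • C.e i = C.e (a * i) := fun i => by
    rw [mul_smul, h2, hl2']
    congr 1
    field_simp
  have hsign : Equiv.Perm.sign (Equiv.mulLeft₀ (a : ZMod p) a.ne_zero) =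
      Equiv.Perm.sign (MulAction.toPerm ((l : X) * g') : Equiv.Perm Ω) :=
    Equiv.Perm.sign_bij (fun x _ => C.e x) (fun x _ _ => (e2 x).symm)
      (fun x y _ _ e => C.inj e) fun y hy => by
        have hy' : y ≠ C.pt := fun e => hy (by
          rw [e, MulAction.toPerm_apply, mul_smul, h1, hl1'])
        obtain ⟨i, rfl⟩ := C.surj y hy'
        refine ⟨i, fun e => hy ?_, rfl⟩
        rw [MulAction.toPerm_apply, e2]
        exact congrArg C.e e
  rw [Cfsg.Lib.Blocks.SmallOrder.sign_mulLeft₀ ha hp3, heven] at hsign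
  exact absurd hsign (by decide)

theorem stab_card_normalizer (h : Hyp p q L Ω) (C : Coord p L Ω)
    (heven : ∀ x : X, Equiv.Perm.sign (MulAction.toPerm x : Equiv.Perm Ω) = 1) :
    ∃ P : Sylow p (MulAction.stabilizer X C.pt),
      Nat.card (Subgroup.normalizer ((P : Subgroup (MulAction.stabilizer X C.pt)) :
        Set (MulAction.stabilizer X C.pt))) = p * q ∧ Nat.card P = p := by
  classical
  haveI := Fact.mk h.hp
  obtain ⟨τ, hτ1, hτ2⟩ := C.shift 1
  set σ : MulAction.stabilizer X C.pt := ⟨(τ : X), hτ1⟩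
  have hσ : ∀ (n : ℕ) i, (σ : X) ^ n • C.e i = C.e (i + n) := by
    intro n
    induction n with
    | zero => simp
    | succ n ih =>
      intro i
      rw [pow_succ', mul_smul, ih, show (σ : X) = (τ : X) from rfl]
      exact (hτ2 _).trans (by rw [Nat.cast_succ, add_assoc])
  have hext : ∀ {g g' : MulAction.stabilizer X C.pt},
      (∀ i, (g : X) • C.e i = (g' : X) • C.e i) → g = g' := fun {g g'} hh =>
    Subtype.ext (eq_of_smul_eq_smul fun x : Ω => by
      by_cases hx : x = C.pt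
      · rw [hx, show (g : X) • C.pt = C.pt from g.2, show (g' : X) • C.pt = C.pt from g'.2]
      · obtain ⟨i, rfl⟩ := C.surj x hx
        exact hh i)
  have hord : orderOf σ = p := orderOf_eq_prime (hext fun i => by
      rw [SubgroupClass.coe_pow, hσ, ZMod.natCast_self, add_zero, Subgroup.coe_one, one_smul])
    fun e => by
      have := hσ 1 0
      rw [pow_one, e, Subgroup.coe_one, one_smul, zero_add, Nat.cast_one] at this
      exact zero_ne_one (C.inj this)
  -- the Sylow subgroup is generated by the translation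
  have hfac : (Nat.card (MulAction.stabilizer X C.pt)).factorization p = 1 := by
    refine le_antisymm ?_ ?_
    · by_contra hlt
      have hd : p * p ∣ Nat.card (MulAction.stabilizer X C.pt) := by
        rw [← sq]
        exact (pow_dvd_pow p (not_le.1 hlt)).trans (Nat.ordProj_dvd _ p)
      let φ := MulAction.toPermHom (MulAction.stabilizer X C.pt)
        (SubMulAction.ofStabilizer X C.pt)
      have hinj : Function.Injective φ := fun g g' e => hext fun i => congrArg Subtype.val
        (DFunLike.congr_fun e (⟨C.e i, fun e => C.ne i (Set.mem_singleton_iff.1 e)⟩ :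
          SubMulAction.ofStabilizer X C.pt))
      have hd2 : p * p ∣ p.factorial := by
        refine hd.trans ?_
        have := Subgroup.card_dvd_of_injective φ hinj
        rwa [Nat.card_perm, SubMulAction.nat_card_ofStabilizer_eq, h.cardΩ, Nat.add_sub_cancel] at this
      rw [← Nat.mul_factorial_pred h.hp.ne_zero] at hd2
      have := h.hp.dvd_factorial.1 (Nat.dvd_of_mul_dvd_mul_left h.hp.pos hd2)
      have := h.hp.one_lt
      omega
    · exact h.hp.factorization_pos_of_dvd Nat.card_pos.ne' (by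
        have := orderOf_dvd_natCard σ; rwa [hord] at this)
  have hcP : Nat.card (Subgroup.zpowers σ) = p := by rw [Nat.card_zpowers, hord]
  refine ⟨Sylow.ofCard (Subgroup.zpowers σ) (by rw [hcP, hfac, pow_one]), ?_, hcP⟩
  rw [Sylow.coe_ofCard]
  rw [← h.card_stab C.pt]
  have hmemL : ∀ g : MulAction.stabilizer X C.pt,
      g ∈ Subgroup.normalizer ((Subgroup.zpowers σ : Subgroup _) : Set _) → (g : X) ∈ L := by
    intro g hg
    obtain ⟨m, hm⟩ := (isOfFinOrder_of_finite σ).mem_powers_iff_mem_zpowers.2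
      ((Subgroup.mem_normalizer_iff.1 hg σ).1 (Subgroup.mem_zpowers σ))
    have hm' : (g : X) * (σ : X) = (σ : X) ^ m * (g : X) := by
      have := congrArg (fun z : MulAction.stabilizer X C.pt => (z : X) * g) hm
      simp only [SubgroupClass.coe_pow, Subgroup.coe_mul, InvMemClass.coe_inv,
        inv_mul_cancel_right] at this
      exact this.symm
    obtain ⟨c, hc⟩ := C.surj ((g : X) • C.e 0) fun e =>
      C.ne 0 (smul_left_cancel (g : X) (e.trans g.2.symm))
    have key : ∀ n : ℕ, (g : X) • C.e n = C.e (c + (m : ZMod p) * n) := by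
      intro n
      induction n with
      | zero => simpa using hc.symm
      | succ n ih =>
        have h1 := hσ 1 (n : ZMod p)
        rw [pow_one, Nat.cast_one] at h1
        rw [Nat.cast_succ, ← h1, ← mul_smul, hm', mul_smul, ih, hσ]
        congr 1
        ring
    refine mem_of_affine h C heven g.2 (c := c) (k := (m : ZMod p)) fun i => ?_
    simpa using key i.val
  refine Nat.card_congr
    { toFun := fun g => ⟨⟨(g.1 : X), hmemL g.1 g.2⟩, g.1.2⟩
      invFun := fun l => ⟨⟨(l.1 : X), l.2⟩, ?_⟩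
      left_inv := fun g => rfl
      right_inv := fun l => rfl }
  -- `L_pt` normalizes the translations
  have hN : ∀ (l : L) (hl : l • C.pt = C.pt) (n : Subgroup.zpowers σ),
      (⟨(l : X), hl⟩ : MulAction.stabilizer X C.pt) * n.1 * ⟨(l : X), hl⟩⁻¹ ∈
        Subgroup.zpowers σ := by
    intro l hl n
    obtain ⟨c, k, hck⟩ := C.aff l hl
    have hck' : ∀ i, (l : X) • C.e i = C.e (c + k * i) := hck
    obtain ⟨a, ha⟩ := (isOfFinOrder_of_finite σ).mem_powers_iff_mem_zpowers.2 n.2
    have ha' : σ ^ a = n.1 := ha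
    refine ⟨(k * (a : ZMod p)).val, ?_⟩
    show σ ^ (((k * (a : ZMod p)).val : ℕ) : ℤ) = _
    rw [zpow_natCast, eq_mul_inv_iff_mul_eq, ← ha']
    refine hext fun i => ?_
    simp only [Subgroup.coe_mul, SubgroupClass.coe_pow, mul_smul, hσ, hck']
    rw [ZMod.natCast_zmod_val]
    congr 1
    ring
  rw [Subgroup.mem_normalizer_iff]
  intro n
  refine ⟨fun hn => hN l.1 l.2 ⟨n, hn⟩, fun hn => ?_⟩
  have := hN (l.1)⁻¹ (by rw [inv_smul_eq_iff]; exact l.2.symm) ⟨_, hn⟩
  convert this using 1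
  apply Subtype.ext
  simp [mul_assoc]

theorem pretransitive_four (hp7 : 7 < p) (h : Hyp p q L Ω) [IsSimpleGroup L]
    (heven : ∀ x : X, Equiv.Perm.sign (MulAction.toPerm x : Equiv.Perm Ω) = 1) (hLX : L ≠ ⊤) :
    MulAction.IsMultiplyPretransitive X Ω 4 := by
  classical
  haveI := Fact.mk h.hp
  obtain ⟨C⟩ := h.exists_coord'
  haveI := h.transitive
  haveI hXt : MulAction.IsPretransitive X Ω := ⟨fun a b => by
    obtain ⟨g, hg⟩ := MulAction.exists_smul_eq L a b
    exact ⟨g, hg⟩⟩
  set Y := MulAction.stabilizer X C.pt with hY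
  set S := SubMulAction.ofStabilizer X C.pt
  haveI hYt : MulAction.IsPretransitive Y S := ⟨fun x y => by
    obtain ⟨g, hga, hgx⟩ := h.two C.pt x.1 C.pt y.1 (fun e => x.2 e.symm) (fun e => y.2 e.symm)
    exact ⟨⟨g, hga⟩, Subtype.ext hgx⟩⟩
  haveI hYf : FaithfulSMul Y S := ⟨fun {g g'} hh => Subtype.ext (eq_of_smul_eq_smul fun x : Ω => by
    by_cases hx : x = C.pt
    · subst hx
      exact g.2.trans g'.2.symm
    · exact congrArg Subtype.val (hh ⟨x, fun e => hx (Set.mem_singleton_iff.1 e)⟩))⟩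
  have hS : Nat.card S = p := by
    rw [SubMulAction.nat_card_ofStabilizer_eq, h.cardΩ, Nat.add_sub_cancel]
  obtain ⟨P, hPN, hPc⟩ := stab_card_normalizer h C heven
  have hins : ¬ Group.IsSolvable Y := by
    intro hsol
    obtain ⟨N, hN, hNc⟩ := exists_normal_of_solvable (G := Y) (Ω := S) h.hp hS
    have hNP : N = (P : Subgroup Y) := by
      obtain ⟨P', hP'⟩ := (IsPGroup.of_card (p := p) (n := 1) (by rw [hNc, pow_one]) :
        IsPGroup p N).exists_le_sylow
      obtain ⟨g, rfl⟩ := MulAction.exists_smul_eq Y P P'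
      refine Subgroup.eq_of_le_of_card_ge ?_ (by rw [hNc]; exact hPc.le)
      intro x hx
      have hx' := hP' (hN.conj_mem x hx g)
      rw [Sylow.coe_subgroup_smul, Subgroup.mem_pointwise_smul_iff_inv_smul_mem] at hx'
      simpa [MulAut.smul_def, mul_assoc] using hx'
    rw [hNP] at hN
    rw [Subgroup.normalizer_eq_top_iff.2 hN, Subgroup.card_top] at hPN
    apply hLX
    refine Subgroup.eq_top_of_card_eq _ ?_
    have h1 := Y.card_mul_index
    rw [hY, MulAction.index_stabilizer_of_transitive, hPN, h.cardΩ] at h1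
    rw [h.cardL, ← h1]; ring
  have hN2 : 2 * Nat.card (Subgroup.normalizer ((P : Subgroup Y) : Set Y)) = p * (p - 1) := by
    rw [hPN, show p - 1 = 2 * q by have := h.hq; omega]; ring
  suffices h3 : MulAction.IsMultiplyPretransitive Y S 3 from
    SubMulAction.ofStabilizer.isMultiplyPretransitive.2 h3
  rcases Cfsg.Agent.PrimeDegreeHalf.data h.hp hS hYt hins P hN2 with h3 | ⟨h34, ⟨K⟩⟩
  · exact h3
  rcases Cfsg.Agent.PrimeDegreeHalf.four_orbits p h.hp hS hYt hins P hN2 with h3 | h4
  · exact h3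
  exfalso
  haveI := h.faithful
  have he : ∀ i, C.e i ∈ S := fun i e => C.ne i (Set.mem_singleton_iff.1 e)
  have hb0 : (⟨C.e 0, he 0⟩ : S) ≠ ⟨C.e 1, he 1⟩ := fun e =>
    zero_ne_one (C.inj (congrArg Subtype.val e))
  set α : S := ⟨C.e 0, he 0⟩ with hα
  set β : S := ⟨C.e 1, he 1⟩ with hβ
  set H := MulAction.stabilizer Y α ⊓ MulAction.stabilizer Y β with hH
  set π : S → MulAction.orbitRel.Quotient H S := fun x => Quotient.mk _ x with hπ
  have hrel : ∀ {x y : S}, π x = π y ↔ ∃ g : H, g • y = x := fun {x y} =>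
    Quotient.eq.trans MulAction.mem_orbit_iff
  have hfixed : ∀ {x : S}, π x = π α → x = α := fun {x} e => by
    obtain ⟨g, hg⟩ := hrel.1 e
    rw [← hg]; exact (Subgroup.mem_inf.1 g.2).1
  have hfixed' : ∀ {x : S}, π x = π β → x = β := fun {x} e => by
    obtain ⟨g, hg⟩ := hrel.1 e
    rw [← hg]; exact (Subgroup.mem_inf.1 g.2).2
  haveI : Fintype (MulAction.orbitRel.Quotient H S) := Fintype.ofFinite _
  have hcard : ((Finset.univ.erase (π α)).erase (π β)).card = 2 := by
    rw [Finset.card_erase_of_mem, Finset.card_erase_of_mem (Finset.mem_univ _), Finset.card_univ,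
      ← Nat.card_eq_fintype_card]
    · rw [h4 α β hb0]
    · exact Finset.mem_erase.2 ⟨fun e => hb0 (hfixed e).symm, Finset.mem_univ _⟩
  obtain ⟨o1, o2, ho12, ho⟩ := Finset.card_eq_two.1 hcard
  obtain ⟨v1, rfl⟩ := Quotient.exists_rep o1
  obtain ⟨v2, rfl⟩ := Quotient.exists_rep o2
  have hv : ∀ v : S, π v ∈ ((Finset.univ.erase (π α)).erase (π β)) →
      v.1 ≠ C.pt ∧ v.1 ≠ C.e 0 ∧ v.1 ≠ C.e 1 := fun v hv => by
    simp only [Finset.mem_erase, Finset.mem_univ, and_true] at hv
    exact ⟨fun e => v.2 (Set.mem_singleton_iff.2 e),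
      fun e => hv.2 (congrArg π (Subtype.ext e : v = α)),
      fun e => hv.1 (congrArg π (Subtype.ext e : v = β))⟩
  obtain ⟨s, hs1, hs2, hs3, hs4⟩ := h.exists_inverting C h34
  haveI := h.cyclic_fix2 C
  obtain ⟨t, ht⟩ := IsCyclic.exists_generator (α := fix2 L C.pt (C.e 0))
  have htq : orderOf t = q := by
    rw [orderOf_eq_card_of_forall_mem_zpowers ht, h.card_fix2 (C.ne 0).symm]
  have htq' : orderOf (t.1 : L) = q := (Subgroup.orderOf_coe t).trans htq
  obtain ⟨ht1, ht2⟩ := mem_fix2.1 t.2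
  have htp : ∀ n, (t.1 : L) ^ n ∈ fix2 L C.pt (C.e 0) := fun n => Subgroup.pow_mem _ t.2 n
  have hone : C.e 1 ≠ C.pt ∧ C.e 1 ≠ C.e 0 :=
    ⟨C.ne 1, fun e => one_ne_zero (C.inj e)⟩
  have hthree : ∀ x y z x' y' z' : Ω, x ≠ y → z ≠ x → z ≠ y → x' ≠ y' → z' ≠ x' → z' ≠ y' →
      ∃ g : X, g • x = x' ∧ g • y = y' ∧ g • z = z' := by
    intro x y z x' y' z' h1 h2 h3 h1' h2' h3'
    obtain ⟨g, hg⟩ := MulAction.exists_smul_eq L x C.pt
    obtain ⟨g', hg'⟩ := MulAction.exists_smul_eq L x' C.pt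
    have hgX : (g : X) • x = C.pt := hg
    have hg'X : (g' : X) • x' = C.pt := hg'
    have hne : ∀ {g : X} {x y : Ω}, g • x = C.pt → x ≠ y → g • y ∈ S := fun {g x y} e ne e' =>
      ne (smul_left_cancel g (e.trans (Set.mem_singleton_iff.1 e').symm))
    obtain ⟨_, ⟨k, rfl⟩, hk1, hk2⟩ := K.two ⟨_, hne hgX h1⟩ ⟨_, hne hgX (Ne.symm h2)⟩
      ⟨_, hne hg'X h1'⟩ ⟨_, hne hg'X (Ne.symm h2')⟩
      (fun e => h3 (smul_left_cancel (g : X) (congrArg Subtype.val e)).symm)
      (fun e => h3' (smul_left_cancel (g' : X) (congrArg Subtype.val e)).symm)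
    refine ⟨(g' : X)⁻¹ * k.1 * g, ?_, ?_, ?_⟩
    · rw [mul_smul, mul_smul, hgX, show (k.1 : X) • C.pt = C.pt from k.2, inv_smul_eq_iff, hg'X]
    · rw [mul_smul, mul_smul, inv_smul_eq_iff]
      exact congrArg Subtype.val hk1
    · rw [mul_smul, mul_smul, inv_smul_eq_iff]
      exact congrArg Subtype.val hk2
  have R : RankThree q X Ω :=
    { hq := h.odd_q h34
      hq3 := by have := h.hq; omega
      card := by rw [h.cardΩ, h.hq]
      a := C.pt, b := C.e 0, c := C.e 1
      hab := (C.ne 0).symm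
      hca := hone.1
      hcb := hone.2
      three := hthree
      v1 := v1.1, v2 := v2.1
      hv1 := hv v1 (by rw [ho]; exact Finset.mem_insert_self _ _)
      hv2 := hv v2 (by rw [ho]; exact Finset.mem_insert_of_mem (Finset.mem_singleton_self _))
      ne12 := fun g g1 g2 g3 g4 => ho12 (Eq.symm (hrel.2
        ⟨⟨⟨g, g1⟩, Subgroup.mem_inf.2 ⟨Subtype.ext g2, Subtype.ext g3⟩⟩, Subtype.ext g4⟩))
      cover := ?_
      noblock := ?_
      t := (t.1 : X), s := (s : X)
      ht := by
        have := congrArg (fun z : L => (z : X)) (htq' ▸ pow_orderOf_eq_one (t.1 : L))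
        simpa using this
      hta := ht1
      htb := ht2
      hsa := hs2
      hsb := hs3
      hs2 := by simpa using congrArg (fun z : L => (z : X)) hs1
      hst := by simpa using congrArg (fun z : L => (z : X)) (hs4 _ t.2)
      semireg := ?_
      notorbit := ?_ }
  · exact R.contradiction
  · intro x xa xb xc
    set x' : S := ⟨x, fun e => xa (Set.mem_singleton_iff.1 e)⟩
    have hx : π x' ∈ ((Finset.univ.erase (π α)).erase (π β)) := by
      simp only [Finset.mem_erase, Finset.mem_univ, and_true]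
      exact ⟨fun e => xc (congrArg Subtype.val (hfixed' e)),
        fun e => xb (congrArg Subtype.val (hfixed e))⟩
    rw [ho, Finset.mem_insert, Finset.mem_singleton] at hx
    rcases hx with hx | hx <;> obtain ⟨g, hg⟩ := hrel.1 hx <;>
      refine ⟨(g.1.1 : X), g.1.2, congrArg Subtype.val (Subgroup.mem_inf.1 g.2).1,
        congrArg Subtype.val (Subgroup.mem_inf.1 g.2).2, ?_⟩
    · exact .inl (congrArg Subtype.val hg)
    · exact .inr (congrArg Subtype.val hg)
  · rintro U hcU ⟨x, hxU, hxc⟩ hU ⟨y, ya, yb, hyU⟩ hinv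
    have hprim := Cfsg.Agent.PrimeDegreeHalf.stabilizer_primitive p h.hp hS hYt hins P hN2 hp7 α
    set B : Set (SubMulAction.ofStabilizer Y α) := {z | (z.1.1 : Ω) ∈ U} with hB
    have mk : ∀ z : Ω, z ≠ C.pt → z ≠ C.e 0 → ∃ w : SubMulAction.ofStabilizer Y α, w.1.1 = z :=
      fun z za zb => ⟨⟨⟨z, fun e => za (Set.mem_singleton_iff.1 e)⟩,
        fun e => zb (congrArg Subtype.val (Set.mem_singleton_iff.1 e))⟩, rfl⟩
    have hblock : MulAction.IsBlock (MulAction.stabilizer Y α) B := by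
      rw [MulAction.isBlock_iff_smul_eq_of_nonempty]
      intro g hne
      obtain ⟨z, ⟨w, hw, rfl⟩, hz⟩ := hne
      have ga : (g.1.1 : X) • C.pt = C.pt := g.1.2
      have gb : (g.1.1 : X) • C.e 0 = C.e 0 := congrArg Subtype.val g.2
      have key := hinv g.1.1 ga gb _ hw hz
      have key' := hinv (g.1.1)⁻¹ (by rw [inv_smul_eq_iff, ga]) (by rw [inv_smul_eq_iff, gb]) _ hz
        (by
          show (g.1.1 : X)⁻¹ • (g.1.1 : X) • (w.1.1 : Ω) ∈ U
          rw [inv_smul_smul]; exact hw)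
      ext v
      constructor
      · rintro ⟨v', hv', rfl⟩
        exact key _ hv'
      · intro hv'
        refine ⟨g⁻¹ • v, key' _ hv', smul_inv_smul g v⟩
    obtain ⟨wc, hwc⟩ := mk _ hone.1 hone.2
    obtain ⟨wx, hwx⟩ := mk x (hU x hxU).1 (hU x hxU).2
    obtain ⟨wy, hwy⟩ := mk y ya yb
    rcases hprim.isTrivialBlock_of_isBlock hblock with hsub | huniv
    · refine hxc ?_
      rw [← hwc, ← hwx, hsub (show wx ∈ B by rw [hB, Set.mem_setOf_eq, hwx]; exact hxU)
        (show wc ∈ B by rw [hB, Set.mem_setOf_eq, hwc]; exact hcU)]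
    · refine hyU ?_
      rw [← hwy]
      exact (huniv.symm ▸ Set.mem_univ wy : wy ∈ B)
  · intro i j hi hj hij
    have hij' : ((t.1 : L) ^ j)⁻¹ * (t.1 : L) ^ i = 1 := by
      refine h.fix_third C (Subgroup.mul_mem _ (Subgroup.inv_mem _ (htp j)) (htp i)) hone.1 hone.2 ?_
      have hij'' : (t.1 : L) ^ i • C.e 1 = (t.1 : L) ^ j • C.e 1 := by simpa using! hij
      rw [mul_smul, hij'', inv_smul_smul]
    exact pow_injOn_Iio_orderOf (by rw [htq']; exact hi) (by rw [htq']; exact hj)
      (inv_mul_eq_one.1 hij').symm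
  · intro i hi
    have hi' : (t.1 : L) ^ i • C.e 1 = s • C.e 1 := by simpa using! hi
    set z : L := ((t.1 : L) ^ i)⁻¹ * s with hz
    have hzfix : z • C.e 1 = C.e 1 := by rw [hz, mul_smul, ← hi', inv_smul_smul]
    have hz2 : z * z = 1 := by
      have h4' := hs4 _ (Subgroup.inv_mem _ (htp i))
      calc z * z = ((t.1 : L) ^ i)⁻¹ * (s * ((t.1 : L) ^ i)⁻¹ * s) := by rw [hz]; group
        _ = 1 := by rw [h4', inv_inv, inv_mul_cancel]
    have hz1 := h.fpf h34 hz2 hzfix
    rw [hz, inv_mul_eq_one] at hz1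
    have := (mem_fix2.1 (htp i)).1
    rw [hz1, hs2] at this
    exact C.ne 0 this

theorem hyp_of_iso (hp : p.Prime) (hp7 : 7 < p) (hΩ : Fintype.card Ω = p + 1)
    (e : L ≃* Matrix.ProjectiveSpecialLinearGroup (Fin 2) (ZMod p))
    (hLt : MulAction.IsMultiplyPretransitive L Ω 2) :
    ∃ q, Hyp p q L Ω ∧ IsSimpleGroup L := by
  haveI := Fact.mk hp
  obtain ⟨q, hq⟩ := hp.odd_of_ne_two (by omega)
  have hsimple : IsSimpleGroup (Matrix.ProjectiveSpecialLinearGroup (Fin 2) (ZMod p)) :=
    Cfsg.Lib.Classical.isSimpleGroup_PSL_fin le_rfl fun _ => by rw [Nat.card_zmod]; omega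
  refine ⟨q, ⟨hp, hq, by omega, ?_, inferInstance, inferInstance, ?_, ?_, ?_⟩, ?_⟩
  · exact ⟨fun {a b} hh => Subtype.ext (eq_of_smul_eq_smul fun x : Ω => hh x)⟩
  · rw [Nat.card_eq_fintype_card, hΩ]
  · rw [Nat.card_congr e.toEquiv]
    have h1 := Cfsg.Lib.Classical.SmallPSL.card_psl (F := ZMod p) (q := p) (ZMod.card p)
    have h2 : Nat.gcd 2 (p - 1) = 2 := Nat.gcd_eq_left ⟨q, by omega⟩
    have h3 : p ^ 2 - 1 = 2 * ((p + 1) * q) := by
      rw [show p ^ 2 = p * p by ring, show p * p = 2 * ((p + 1) * q) + 1 by rw [hq]; ring,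
        Nat.add_sub_cancel]
    rw [h2, h3] at h1
    apply Nat.eq_of_mul_eq_mul_left two_pos
    rw [h1]; ring
  · intro a b a' b' hab hab'
    exact MulAction.is_two_pretransitive_iff.1 hLt hab hab'
  · exact e.isSimpleGroup_congr.2 hsimple

theorem four_transitive (hp : p.Prime) (hp7 : 7 < p) (hΩ : Fintype.card Ω = p + 1)
    (heven : ∀ x : X, Equiv.Perm.sign (MulAction.toPerm x : Equiv.Perm Ω) = 1)
    (hL : Nonempty (L ≃* Matrix.ProjectiveSpecialLinearGroup (Fin 2) (ZMod p)))
    (hLt : MulAction.IsMultiplyPretransitive L Ω 2) (hLX : L ≠ ⊤) :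
    MulAction.IsMultiplyPretransitive X Ω 4 := by
  obtain ⟨e⟩ := hL
  obtain ⟨q, h, hs⟩ := hyp_of_iso hp hp7 hΩ e hLt
  exact pretransitive_four hp7 h heven hLX

end Cfsg.Agent.EvenOvergroup
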